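import Groth.Agent.CohTwo.Degeneracy.Charts
import Groth.Agent.Variety2.DimAffine

/-!
# When the codimension of the degeneracy loci exceeds the dimension
-/

universe u

open Matrix MvPolynomial

namespace Groth.CohTwo.Degeneracy

theorem minorIdeal_zero {R : Type*} [CommRing R] {p q : Type*} (M : Matrix p q R) : minorIdeal 0 M = ⊤ := by
  rw [Ideal.eq_top_iff_one]
  refine Ideal.subset_span ⟨(Fin.elim0, Fin.elim0), ?_⟩
  exact Matrix.det_fin_zero

variable (k : Type u) [Field k] (A : Type u) [CommRing A] [Algebra k A]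

theorem exists_prime_away {A : Type u} [CommRing A] {J : Ideal A} {P : Ideal A} [P.IsPrime] (hJP : J ≤ P) {t : A}
    (ht : t ∉ P) : ∃ Q : Ideal (Localization.Away (Ideal.Quotient.mk J t)), Q.IsPrime ∧
      Q.comap ((algebraMap (A ⧸ J) _).comp (Ideal.Quotient.mk J)) = P := by
  let P' := P.map (Ideal.Quotient.mk J)
  have hker : RingHom.ker (Ideal.Quotient.mk J) ≤ P := by rwa [Ideal.mk_ker]
  haveI : P'.IsPrime := Ideal.map_isPrime_of_surjective Ideal.Quotient.mk_surjective hker
  have hc : P'.comap (Ideal.Quotient.mk J) = P := by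
    rw [Ideal.comap_map_of_surjective' _ Ideal.Quotient.mk_surjective]
    exact sup_eq_left.2 hker
  have hd : Disjoint (Submonoid.powers (Ideal.Quotient.mk J t) : Set (A ⧸ J)) P' := by
    rw [Set.disjoint_left]
    rintro _ ⟨i, rfl⟩ hi
    exact ht ((congrArg (t ∈ ·) hc).mp (‹P'.IsPrime›.mem_of_pow_mem i hi))
  refine ⟨P'.map (algebraMap _ _), IsLocalization.isPrime_of_isPrime_disjoint _ _ P' ‹_› hd, ?_⟩
  rw [← Ideal.comap_comap, ← Ideal.under_def, IsLocalization.under_map_of_isPrime_disjoint _ _ ‹_› hd, hc]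

/-- For general coefficients: no prime lies on a stratum of codimension bigger than the dimension, and the
stratum of codimension equal to the dimension consists of closed points. -/
theorem exists_good_strata [CharZero k] [IsDomain A] [Algebra.Smooth k A] (n : ℕ) (hn : ringKrullDim A = n)
    {m e f : ℕ} (Φ : Fin m → Matrix (Fin f) (Fin e) A) (hΦ : Submodule.span A (Set.range Φ) = ⊤) :
    ∃ p : MvPolynomial (Fin m) k, p ≠ 0 ∧ ∀ v : Fin m → k, eval v p ≠ 0 →
      ∀ P : Ideal A, P.IsPrime → ∀ r < e, minorIdeal (r + 1) (member k A Φ v) ≤ P →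
        ¬ minorIdeal r (member k A Φ v) ≤ P →
        (e - r) * (f - r) ≤ n ∧ ((e - r) * (f - r) = n → P.IsMaximal) := by
  classical
  choose p hp hgood using fun r : Fin e => exists_good_system k A n hn (r := r) Φ hΦ
  refine ⟨∏ r, p r, Finset.prod_ne_zero_iff.2 fun r _ => hp r, fun v hv P hP r hr hle hnle => ?_⟩
  rw [map_prod, Finset.prod_ne_zero_iff] at hv
  obtain ⟨t, htP, -, -, hht⟩ := hgood ⟨r, hr⟩ v (hv _ (Finset.mem_univ _)) P hP hle hnle
  obtain ⟨Q, hQ, hQP⟩ := exists_prime_away hle htP
  obtain ⟨𝔪, h𝔪, hQm⟩ := Ideal.exists_le_maximal Q hQ.ne_top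
  have h := hht 𝔪 h𝔪
  have hcn : (e - r) * (f - r) ≤ n := by
    exact_mod_cast h ▸ le_add_self (a := (((e - r) * (f - r) : ℕ) : ℕ∞))
  refine ⟨hcn, fun heq => ?_⟩
  have h0 : 𝔪.height = 0 := by
    refine (ENat.add_left_injective_of_ne_top (ENat.natCast_ne_top ((e - r) * (f - r)))) ?_
    simp only []
    rw [h, heq, zero_add]
  haveI := h𝔪.isPrime
  have hmem : 𝔪 ∈ minimalPrimes _ := Ideal.height_eq_zero_iff.1 h0
  have hQm' : Q = 𝔪 := le_antisymm hQm (hmem.2 ⟨hQ, bot_le⟩ hQm)
  let R := Localization.Away (Ideal.Quotient.mk (minorIdeal (r + 1) (member k A Φ v)) t)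
  haveI : Algebra.FiniteType k A := inferInstance
  haveI : IsJacobsonRing A := isJacobsonRing_of_finiteType (A := k)
  haveI : IsJacobsonRing (A ⧸ minorIdeal (r + 1) (member k A Φ v)) := inferInstance
  have h1 : (𝔪.comap (algebraMap (A ⧸ minorIdeal (r + 1) (member k A Φ v)) R)).IsMaximal :=
    ((IsLocalization.isMaximal_iff_isMaximal_disjoint R (Ideal.Quotient.mk (minorIdeal (r + 1) (member k A Φ v)) t) 𝔪).1 h𝔪).1
  haveI := h1
  rw [← hQP, hQm', ← Ideal.comap_comap]
  exact Ideal.comap_isMaximal_of_surjective _ Ideal.Quotient.mk_surjective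

/-- General members of a system with all strata of too large codimension have full rank everywhere. -/
theorem exists_fullRank [CharZero k] [IsDomain A] [Algebra.Smooth k A] (n : ℕ) (hn : ringKrullDim A = n)
    {m e f : ℕ} (Φ : Fin m → Matrix (Fin f) (Fin e) A) (hΦ : Submodule.span A (Set.range Φ) = ⊤)
    (hbig : ∀ r < e, n < (e - r) * (f - r)) :
    ∃ p : MvPolynomial (Fin m) k, p ≠ 0 ∧ ∀ v : Fin m → k, eval v p ≠ 0 →
      minorIdeal e (member k A Φ v) = ⊤ := by
  obtain ⟨p, hp, h⟩ := exists_good_strata k A n hn Φ hΦ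
  refine ⟨p, hp, fun v hv => by_contra fun hne => ?_⟩
  obtain ⟨P, hP, hle⟩ := Ideal.exists_le_maximal _ hne
  haveI := hP.isPrime
  have key : ∀ r ≤ e, ¬ minorIdeal r (member k A Φ v) ≤ P := by
    intro r
    induction r with
    | zero => exact fun _ h0 => hP.ne_top (top_le_iff.1 (minorIdeal_zero (member k A Φ v) ▸ h0))
    | succ r ih =>
      intro hr hle'
      exact not_le.2 (hbig r (by omega)) (h v hv P hP.isPrime r (by omega) hle' (ih (by omega))).1
  exact key e le_rfl hle

/-- A matrix whose maximal minors generate the unit ideal is injective. -/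
theorem mulVec_eq_zero_of_minorIdeal {R : Type*} [CommRing R] {e f : ℕ} (M : Matrix (Fin f) (Fin e) R)
    {x : Fin e → R} (hx : M *ᵥ x = 0) {d : R} (hd : d ∈ minorIdeal e M) : d • x = 0 := by
  induction hd using Submodule.span_induction with
  | mem d hd =>
    obtain ⟨⟨a, b⟩, rfl⟩ := hd
    by_cases hb : Function.Bijective b
    · let σ := Equiv.ofBijective b hb
      have hzero : M.submatrix a b *ᵥ (x ∘ b) = 0 := by
        funext i
        have h1 : (M *ᵥ x) (a i) = 0 := by rw [hx]; rfl
        rw [Pi.zero_apply, ← h1]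
        exact Fintype.sum_equiv σ _ _ fun j => rfl
      have h2 := congrArg ((M.submatrix a b).adjugate *ᵥ ·) hzero
      simp only [Matrix.mulVec_mulVec, Matrix.adjugate_mul, Matrix.smul_mulVec, Matrix.one_mulVec,
        Matrix.mulVec_zero] at h2
      funext j
      obtain ⟨i, rfl⟩ := hb.2 j
      exact congrFun h2 i
    · rw [Finite.injective_iff_bijective.symm, Function.not_injective_iff] at hb
      obtain ⟨i, j, hij, hne⟩ := hb
      simp only []
      rw [Matrix.det_zero_of_column_eq hne (fun y => by simp [hij]), zero_smul]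
  | zero => rw [zero_smul]
  | add a b _ _ ha hb => rw [add_smul, ha, hb, add_zero]
  | smul c a _ ha => rw [smul_eq_mul, mul_smul, ha, smul_zero]

theorem minorIdeal_eq_bot_of_lt {R : Type*} [CommRing R] {e : ℕ} {p : Type*} (M : Matrix p (Fin e) R) {r : ℕ}
    (hr : e < r) : minorIdeal r M = ⊥ := by
  rw [minorIdeal, Ideal.span_eq_bot]
  rintro _ ⟨ab, rfl⟩
  obtain ⟨i, j, hne, hij⟩ := Fintype.exists_ne_map_eq_of_card_lt ab.2 (by simpa using hr)
  exact Matrix.det_zero_of_column_eq hne fun y => by simp [hij]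

end Groth.CohTwo.Degeneracy

namespace Groth.CohTwo.Degeneracy

variable (k : Type u) [Field k] (A : Type u) [CommRing A] [Algebra k A]

/-- A general member of a system has generically maximal rank. -/
theorem exists_genericRank [CharZero k] [IsDomain A] [Algebra.Smooth k A] (n : ℕ) (hn : ringKrullDim A = n)
    {m e f : ℕ} (Φ : Fin m → Matrix (Fin f) (Fin e) A) (hΦ : Submodule.span A (Set.range Φ) = ⊤) (hef : e ≤ f) :
    ∃ p : MvPolynomial (Fin m) k, p ≠ 0 ∧ ∀ v : Fin m → k, eval v p ≠ 0 →
      minorIdeal e (member k A Φ v) ≠ ⊥ := by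
  classical
  choose p hp hgood using fun r : Fin e => exists_good_system k A n hn (r := r) Φ hΦ
  refine ⟨∏ r, p r, Finset.prod_ne_zero_iff.2 fun r _ => hp r, fun v hv hbot => ?_⟩
  rw [map_prod, Finset.prod_ne_zero_iff] at hv
  haveI : Algebra.FiniteType k A := inferInstance
  have key : ∀ r ≤ e, minorIdeal r (member k A Φ v) ≠ ⊥ := by
    intro r
    induction r with
    | zero => exact fun _ => by rw [minorIdeal_zero]; exact top_ne_bot
    | succ r ih =>
      intro hr hJ
      obtain ⟨t, ht, -, -, hht⟩ := hgood ⟨r, hr⟩ v (hv _ (Finset.mem_univ _)) ⊥ Ideal.isPrime_bot hJ.le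
        fun h => ih (by omega) (le_bot_iff.1 h)
      simp only at hht
      revert hht
      rw [hJ]
      intro hht
      have ht0 : t ≠ 0 := ht
      let R := Localization.Away (Ideal.Quotient.mk (⊥ : Ideal A) t)
      let A' := Localization.Away t
      let ψ := IsLocalization.Away.lift (S := R) (P := A') (Ideal.Quotient.mk (⊥ : Ideal A) t)
        (g := Ideal.Quotient.lift (⊥ : Ideal A) (algebraMap A A') (fun x hx => by rw [(Submodule.mem_bot A).1 hx, map_zero]))
        (IsLocalization.Away.algebraMap_isUnit t)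
      let χ := IsLocalization.Away.lift (S := A') (P := R) t
        (g := (algebraMap (A ⧸ (⊥ : Ideal A)) R).comp (Ideal.Quotient.mk ⊥))
        (IsLocalization.Away.algebraMap_isUnit (Ideal.Quotient.mk (⊥ : Ideal A) t))
      have h1 : ∀ x, ψ (algebraMap (A ⧸ (⊥ : Ideal A)) R (Ideal.Quotient.mk ⊥ x)) = algebraMap A A' x :=
        fun x => IsLocalization.Away.lift_eq _ _ _
      have h2 : ∀ x, χ (algebraMap A A' x) = algebraMap (A ⧸ (⊥ : Ideal A)) R (Ideal.Quotient.mk ⊥ x) :=
        fun x => IsLocalization.Away.lift_eq _ _ _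
      have h12 : ψ.comp χ = RingHom.id A' := by
        refine IsLocalization.ringHom_ext (Submonoid.powers t) (RingHom.ext fun x => ?_)
        change ψ (χ (algebraMap A A' x)) = algebraMap A A' x
        rw [h2, h1]
      have h21 : χ.comp ψ = RingHom.id R := by
        refine IsLocalization.ringHom_ext (Submonoid.powers (Ideal.Quotient.mk (⊥ : Ideal A) t)) ?_
        refine Ideal.Quotient.ringHom_ext (RingHom.ext fun x => ?_)
        change χ (ψ (algebraMap (A ⧸ (⊥ : Ideal A)) R (Ideal.Quotient.mk ⊥ x))) = _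
        rw [h1, h2]
        rfl
      let E : R ≃+* A' := RingEquiv.ofRingHom ψ χ h12 h21
      haveI : IsDomain A' :=
        IsLocalization.isDomain_of_le_nonZeroDivisors _ (powers_le_nonZeroDivisors_of_noZeroDivisors ht0)
      obtain ⟨𝔪, h𝔪⟩ := Ideal.exists_maximal A'
      haveI := h𝔪
      haveI : Algebra.FiniteType A A' := IsLocalization.finiteType_of_monoid_fg (Submonoid.powers t) _
      haveI : Algebra.FiniteType k A' := Algebra.FiniteType.trans (R := k) (S := A) inferInstance inferInstance
      obtain ⟨n', -, hn', hht'⟩ := Groth.Variety2.Dim.exists_dim k A'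
      have e1 : n' = n := by
        rw [ringKrullDim_away k A n hn t ht0] at hn'
        exact_mod_cast hn'.symm
      haveI := Ideal.map_isMaximal_of_equiv (p := 𝔪) E.symm
      have h := hht (𝔪.map E.symm) inferInstance
      rw [show (𝔪.map E.symm).height = 𝔪.height from E.symm.height_map 𝔪, hht' 𝔪 h𝔪, e1] at h
      have h' : (e - r) * (f - r) = 0 := by
        have h3 : n + (e - r) * (f - r) = n := by exact_mod_cast h
        omega
      rcases Nat.mul_eq_zero.1 h' with h4 | h4 <;> omega
  exact key e le_rfl hbot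

end Groth.CohTwo.Degeneracy
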