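import Groth.Agent.CohTwo.Degeneracy.Chart
import Groth.Agent.CohTwo.Degeneracy.FullRank
import Groth.Agent.S8875

/-!
# Morphisms of bundles of full rank
-/

universe u

open CategoryTheory CategoryTheory.Limits AlgebraicGeometry Opposite TopologicalSpace
open scoped Matrix

namespace Groth.CohTwo.Degeneracy

open Groth.QCohMod (appₗ)

variable (k : Type u) [Field k] {X : Scheme.{u}} [X.Over (Spec (CommRingCat.of k))]

/-- The linear system of matrices of a chart. -/
theorem exists_system [IsIntegral X] [Smooth (X ↘ Spec (CommRingCat.of k))]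
    [LocallyOfFiniteType (X ↘ Spec (CommRingCat.of k))] (n : ℕ) (hdim : topologicalKrullDim X = n)
    {E F : X.Modules} {e f m : ℕ} (c : (E ⟶ F) ≃ₗ[k] (Fin m → k)) (U : X.affineOpens) [Nonempty U.1]
    (a : Module.Basis (Fin e) Γ(X, U.1) Γ(E, U.1)) (b : Module.Basis (Fin f) Γ(X, U.1) Γ(F, U.1))
    (hspan : Submodule.span Γ(X, U.1) (Set.range fun φ : E ⟶ F => appₗ φ U.1) = ⊤) :
    letI : Algebra k Γ(X, U.1) := (scalarRes k X U.1).toAlgebra
    Algebra.Smooth k Γ(X, U.1) ∧ ringKrullDim Γ(X, U.1) = n ∧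
      ∃ Φ : Fin m → Matrix (Fin f) (Fin e) Γ(X, U.1), Submodule.span Γ(X, U.1) (Set.range Φ) = ⊤ ∧
        ∀ φ : E ⟶ F, LinearMap.toMatrix a b (appₗ φ U.1) = member k Γ(X, U.1) Φ (c φ) := by
  classical
  letI : Algebra k Γ(X, U.1) := (scalarRes k X U.1).toAlgebra
  let φl : Fin m → (E ⟶ F) := fun l => c.symm (Pi.single l 1)
  have hφ : ∀ φ : E ⟶ F, appₗ φ U.1 = ∑ l, algebraMap k Γ(X, U.1) (c φ l) • appₗ (φl l) U.1 := by
    intro φ
    have h : φ = ∑ l, c φ l • φl l := by
      apply c.injective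
      simp only [map_sum, map_smul, φl, LinearEquiv.apply_symm_apply]
      exact pi_eq_sum_univ' (c φ)
    conv_lhs => rw [h]
    exact appₗ_sum_smul k _ _ _
  refine ⟨RingHom.smooth_algebraMap.1 (smooth_scalarRes k U.2), ?_,
    fun l => LinearMap.toMatrix a b (appₗ (φl l) U.1), ?_, fun φ => ?_⟩
  · rw [← topologicalKrullDim_eq_ringKrullDim U.2,
      Groth.Variety2.Dim.dim_opens (X ↘ Spec (CommRingCat.of k)) U.1 ⟨_, (Classical.arbitrary U.1).2⟩, hdim]
  · have h1 : Submodule.span Γ(X, U.1) (Set.range fun l => appₗ (φl l) U.1) = ⊤ := by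
      rw [eq_top_iff, ← hspan, Submodule.span_le]
      rintro _ ⟨φ, rfl⟩
      change appₗ φ U.1 ∈ _
      rw [hφ φ]
      exact Submodule.sum_mem _ fun l _ => Submodule.smul_mem _ _ (Submodule.subset_span ⟨l, rfl⟩)
    have h2 := congrArg (Submodule.map (LinearMap.toMatrix a b).toLinearMap) h1
    rw [Submodule.map_span, ← Set.range_comp, Submodule.map_top, LinearEquiv.range] at h2
    exact h2
  · rw [hφ φ, map_sum]
    ext i j
    simp only [map_smul, Matrix.sum_apply, Matrix.smul_apply, smul_eq_mul, member_apply]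

/-- On a chart, a general morphism has full rank when all degeneracy loci have too large codimension. -/
theorem chart_fullRank [CharZero k] [IsIntegral X] [Smooth (X ↘ Spec (CommRingCat.of k))]
    [LocallyOfFiniteType (X ↘ Spec (CommRingCat.of k))] (n : ℕ) (hdim : topologicalKrullDim X = n)
    {E F : X.Modules} {e f m : ℕ} (c : (E ⟶ F) ≃ₗ[k] (Fin m → k)) (U : X.affineOpens) [Nonempty U.1]
    (a : Module.Basis (Fin e) Γ(X, U.1) Γ(E, U.1)) (b : Module.Basis (Fin f) Γ(X, U.1) Γ(F, U.1))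
    (hspan : Submodule.span Γ(X, U.1) (Set.range fun φ : E ⟶ F => appₗ φ U.1) = ⊤)
    (hbig : ∀ r < e, n < (e - r) * (f - r)) :
    ∃ p : MvPolynomial (Fin m) k, p ≠ 0 ∧ ∀ φ : E ⟶ F, MvPolynomial.eval (c φ) p ≠ 0 →
      minorIdeal e (LinearMap.toMatrix a b (appₗ φ U.1)) = ⊤ := by
  obtain ⟨hsm, hn, Φ, hΦ, hM⟩ := exists_system k n hdim c U a b hspan
  let _ : Algebra k Γ(X, U.1) := (scalarRes k X U.1).toAlgebra
  obtain ⟨p, hp, h⟩ := exists_fullRank k Γ(X, U.1) n hn Φ hΦ hbig
  exact ⟨p, hp, fun φ hφ => by rw [hM φ]; exact h _ hφ⟩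

omit [X.Over (Spec (CommRingCat.of k))]

/-- An injective map on sections over an affine cover is a monomorphism. -/
theorem mono_of_affine_cover {E F : X.Modules} [E.IsQuasicoherent] [F.IsQuasicoherent] (φ : E ⟶ F)
    (h : ∀ x : X, ∃ U : X.affineOpens, x ∈ U.1 ∧ Function.Injective (appₗ φ U.1)) : Mono φ := by
  refine (Groth.QCohMod.mono_iff_stalk φ).2 fun x => ?_
  obtain ⟨U, hx, hinj⟩ := h x
  change Function.Injective (RefHull.stalkMapₗ φ x)
  refine (injective_iff_map_eq_zero _).2 fun t ht => ?_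
  obtain ⟨a, m, ha, hm⟩ := Groth.QCohMod.exists_smul_germ_eq E U.2 x hx t
  have hu : IsUnit (X.presheaf.germ U.1 x hx a) := (Scheme.mem_basicOpen X a x hx).mp ha
  have h0 : Groth.QCohMod.germ F x hx (φ.app U.1 m) = 0 := by
    refine (RefHull.stalkMapₗ_germ φ x hx m).symm.trans ?_
    refine (congrArg (RefHull.stalkMapₗ φ x) hm.symm).trans ?_
    rw [map_smul, ht, smul_zero]
  obtain ⟨d, hd, hd0⟩ := Groth.QCohMod.exists_smul_eq_zero_of_germ_eq_zero F U.2 x hx _ h0
  have hm0 : d • m = 0 := hinj (by rw [map_smul, map_zero]; exact hd0)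
  have h1 := congrArg (Groth.QCohMod.germ E x hx) hm0
  rw [Groth.QCohMod.germ_smul, map_zero] at h1
  have h2 := ((Scheme.mem_basicOpen X d x hx).mp hd).smul_left_cancel.1
    (h1.trans (smul_zero (X.presheaf.germ U.1 x hx d)).symm)
  exact hu.smul_left_cancel.1 ((hm.trans h2).trans (smul_zero _).symm)

theorem injective_of_minorIdeal {R P N : Type*} [CommRing R] [AddCommGroup P] [Module R P] [AddCommGroup N]
    [Module R N] {e f : ℕ} (a : Module.Basis (Fin e) R P) (b : Module.Basis (Fin f) R N) (g : P →ₗ[R] N)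
    (h : minorIdeal e (LinearMap.toMatrix a b g) = ⊤) : Function.Injective g := by
  refine (injective_iff_map_eq_zero g).2 fun x hx => ?_
  have h1 : LinearMap.toMatrix a b g *ᵥ ⇑(a.repr x) = 0 := by
    rw [LinearMap.toMatrix_mulVec_repr, hx, map_zero]; rfl
  have h2 := mulVec_eq_zero_of_minorIdeal _ h1 (d := 1) (h ▸ Submodule.mem_top)
  rw [one_smul] at h2
  exact a.repr.injective ((DFunLike.coe_injective (h2.trans (Finsupp.coe_zero).symm)).trans (map_zero _).symm)

theorem minorIdeal_succ_le {R : Type*} [CommRing R] {p q : Type*} (M : Matrix p q R) (r : ℕ) :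
    minorIdeal (r + 1) M ≤ minorIdeal r M := by
  refine Ideal.span_le.2 ?_
  rintro _ ⟨ab, rfl⟩
  simp only []
  rw [Matrix.det_succ_row_zero]
  refine Submodule.sum_mem _ fun j _ => Ideal.mul_mem_left _ _ ?_
  rw [Matrix.submatrix_submatrix]
  exact det_mem_minorIdeal M _ _

theorem minorIdeal_antitone {R : Type*} [CommRing R] {p q : Type*} (M : Matrix p q R) :
    Antitone fun r => minorIdeal r M :=
  antitone_nat_of_succ_le (minorIdeal_succ_le M)

/-- A morphism of full rank everywhere is mono with locally free cokernel. -/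
theorem mono_and_locFree_cokernel [IsLocallyNoetherian X] {E F : X.Modules} {e f : ℕ} (hef : e ≤ f)
    (hE : Coh.IsCoh E) (hF : Coh.IsCoh F) (φ : E ⟶ F)
    (h : ∀ x : X, ∃ (U : X.affineOpens) (a : Module.Basis (Fin e) Γ(X, U.1) Γ(E, U.1))
      (b : Module.Basis (Fin f) Γ(X, U.1) Γ(F, U.1)), x ∈ U.1 ∧
        minorIdeal e (LinearMap.toMatrix a b (appₗ φ U.1)) = ⊤) :
    Mono φ ∧ FlatMod.IsFinLocFreeOfRank (f - e) (cokernel φ) := by
  have := hE.1
  have := hF.1
  choose U a b hxU hU using h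
  refine ⟨mono_of_affine_cover φ fun x => ⟨U x, hxU x, injective_of_minorIdeal (a x) (b x) _ (hU x)⟩, ?_⟩
  have hc := Groth.QCohMod.isCoh_cokernel φ hF
  have hcov : (⨆ x, ((U x).1 : X.Opens)) = ⊤ :=
    top_unique fun x _ => Opens.mem_iSup.2 ⟨x, hxU x⟩
  rw [Groth.Agent.S8875.result X _ hc.1 hc.2]
  refine ⟨fun i hi => Scheme.IdealSheafData.ext_of_iSup_eq_top U hcov fun x => ?_,
    fun i hi => Scheme.IdealSheafData.ext_of_iSup_eq_top U hcov fun x => ?_⟩
  · rw [ideal_sheafIdeal_cokernel hE hF φ (U x) (a x) (b x),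
      minorIdeal_eq_bot_of_lt _ (by omega : e < f - i)]
    rfl
  · rw [ideal_sheafIdeal_cokernel hE hF φ (U x) (a x) (b x)]
    exact (top_unique ((hU x).ge.trans (minorIdeal_antitone _ (by omega : f - i ≤ e)))).trans rfl

end Groth.CohTwo.Degeneracy
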