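import Groth.Agent.CohTwo.Degeneracy.Incidence
import Groth.Agent.CohTwo.Degeneracy.FullRankSheaf

/-!
# Rank drop of general block-triangular morphisms on an affine chart
-/

universe u

open CategoryTheory CategoryTheory.Limits AlgebraicGeometry Opposite TopologicalSpace MvPolynomial
open scoped Matrix

namespace Groth.CohTwo.Degeneracy

open Groth.QCohMod (appₗ)

variable {X : Scheme.{u}}

/-- The sections of a binary sum. -/
noncomputable def biprodSec (A B : X.Modules) (U : X.Opens) :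
    (Γ(A, U) × Γ(B, U)) ≃ₗ[Γ(X, U)] Γ(A ⊞ B, U) := by
  refine LinearEquiv.ofLinearMap ((appₗ biprod.inl U).coprod (appₗ biprod.inr U))
    ((appₗ biprod.fst U).prod (appₗ biprod.snd U)) ?_ ?_
  · refine LinearMap.ext fun z => ?_
    exact congr(($(biprod.total (X := A) (Y := B))).app U z)
  · refine LinearMap.ext fun z => ?_
    obtain ⟨x, y⟩ := z
    refine Prod.ext ?_ ?_
    · change (biprod.fst : A ⊞ B ⟶ A).app U
        ((biprod.inl : A ⟶ A ⊞ B).app U x + (biprod.inr : B ⟶ A ⊞ B).app U y) = x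
      rw [map_add]
      exact (congrArg₂ (· + ·) congr(($(biprod.inl_fst (X := A) (Y := B))).app U x)
        congr(($(biprod.inr_fst (X := A) (Y := B))).app U y)).trans (add_zero x)
    · change (biprod.snd : A ⊞ B ⟶ B).app U
        ((biprod.inl : A ⟶ A ⊞ B).app U x + (biprod.inr : B ⟶ A ⊞ B).app U y) = y
      rw [map_add]
      exact (congrArg₂ (· + ·) congr(($(biprod.inl_snd (X := A) (Y := B))).app U x)
        congr(($(biprod.inr_snd (X := A) (Y := B))).app U y)).trans (zero_add y)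

theorem biprodSec_symm_apply (A B : X.Modules) (U : X.Opens) (z : Γ(A ⊞ B, U)) :
    (biprodSec A B U).symm z = (appₗ biprod.fst U z, appₗ biprod.snd U z) := rfl

/-- If the morphisms to the two summands span, so do the morphisms to the sum. -/
theorem span_appₗ_biprod (A B₁ B₂ : X.Modules) (U : X.Opens)
    (h₁ : Submodule.span Γ(X, U) (Set.range fun φ : A ⟶ B₁ => appₗ φ U) = ⊤)
    (h₂ : Submodule.span Γ(X, U) (Set.range fun φ : A ⟶ B₂ => appₗ φ U) = ⊤) :
    Submodule.span Γ(X, U) (Set.range fun φ : A ⟶ B₁ ⊞ B₂ => appₗ φ U) = ⊤ := by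
  let S := Submodule.span Γ(X, U) (Set.range fun φ : A ⟶ B₁ ⊞ B₂ => appₗ φ U)
  have key : ∀ {B : X.Modules} (ι : B ⟶ B₁ ⊞ B₂),
      Submodule.span Γ(X, U) (Set.range fun φ : A ⟶ B => appₗ φ U) = ⊤ →
      ∀ g : Γ(A, U) →ₗ[Γ(X, U)] Γ(B, U), (appₗ ι U).comp g ∈ S := by
    intro B ι hB g
    have hg : g ∈ Submodule.span Γ(X, U) (Set.range fun φ : A ⟶ B => appₗ φ U) := hB ▸ Submodule.mem_top
    induction hg using Submodule.span_induction with
    | mem g hg =>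
      obtain ⟨φ, rfl⟩ := hg
      exact Submodule.subset_span ⟨φ ≫ ι, rfl⟩
    | zero => rw [LinearMap.comp_zero]; exact Submodule.zero_mem _
    | add g g' _ _ h h' => rw [LinearMap.comp_add]; exact Submodule.add_mem _ h h'
    | smul c g _ h => rw [LinearMap.comp_smul]; exact Submodule.smul_mem _ _ h
  refine Submodule.eq_top_iff'.2 fun g => ?_
  have hg : g = (appₗ biprod.inl U).comp ((appₗ biprod.fst U).comp g) +
      (appₗ biprod.inr U).comp ((appₗ biprod.snd U).comp g) := LinearMap.ext fun z =>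
    ((biprodSec B₁ B₂ U).apply_symm_apply (g z)).symm
  rw [hg]
  exact Submodule.add_mem _ (key _ h₁ _) (key _ h₂ _)

variable (k : Type u) [Field k] [X.Over (Spec (CommRingCat.of k))]

set_option maxHeartbeats 800000 in
/-- Where a general block-triangular morphism drops rank, the codimension is at least
`min (b₂ - a₂) (b - a) + 1`. -/
theorem chart_blockBound [CharZero k] [IsIntegral X] [Smooth (X ↘ Spec (CommRingCat.of k))]
    [LocallyOfFiniteType (X ↘ Spec (CommRingCat.of k))] [IsLocallyNoetherian X]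
    (n : ℕ) (hdim : topologicalKrullDim X = n) {A₁ A₂ B₁ B₂ : X.Modules} {a₁ a₂ b₁ b₂ m₁ m₂ : ℕ}
    (hA : Coh.IsCoh (A₁ ⊞ A₂)) (hB : Coh.IsCoh (B₁ ⊞ B₂))
    (c₁ : (A₁ ⟶ B₁ ⊞ B₂) ≃ₗ[k] (Fin m₁ → k)) (c₂ : (A₂ ⟶ B₂) ≃ₗ[k] (Fin m₂ → k))
    (U : X.affineOpens) [Nonempty U.1]
    (α₁ : Module.Basis (Fin a₁) Γ(X, U.1) Γ(A₁, U.1)) (α₂ : Module.Basis (Fin a₂) Γ(X, U.1) Γ(A₂, U.1))
    (β₁ : Module.Basis (Fin b₁) Γ(X, U.1) Γ(B₁, U.1)) (β₂ : Module.Basis (Fin b₂) Γ(X, U.1) Γ(B₂, U.1))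
    (hs₁₁ : Submodule.span Γ(X, U.1) (Set.range fun φ : A₁ ⟶ B₁ => appₗ φ U.1) = ⊤)
    (hs₁₂ : Submodule.span Γ(X, U.1) (Set.range fun φ : A₁ ⟶ B₂ => appₗ φ U.1) = ⊤)
    (hs₂₂ : Submodule.span Γ(X, U.1) (Set.range fun φ : A₂ ⟶ B₂ => appₗ φ U.1) = ⊤)
    (hab : a₁ + a₂ ≤ b₁ + b₂) (hab₂ : a₂ ≤ b₂) :
    ∃ p : MvPolynomial (Fin m₁ ⊕ Fin m₂) k, p ≠ 0 ∧ ∀ φ : A₁ ⊞ A₂ ⟶ B₁ ⊞ B₂, biprod.inr ≫ φ ≫ biprod.fst = 0 →
      eval (Sum.elim (c₁ (biprod.inl ≫ φ)) (c₂ (biprod.inr ≫ φ ≫ biprod.snd))) p ≠ 0 →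
      ∀ P : Ideal Γ(X, U.1), P.IsPrime →
        (Fitt.sheafIdeal (cokernel φ) (b₁ + b₂ - (a₁ + a₂))).ideal U ≤ P →
        ringKrullDim (Γ(X, U.1) ⧸ P) + ((min (b₂ - a₂) (b₁ + b₂ - (a₁ + a₂)) + 1 : ℕ) : WithBot ℕ∞) ≤ (n : ℕ) := by
  classical
  let bA := ((α₁.prod α₂).map (biprodSec A₁ A₂ U.1))
  let bB := ((β₁.prod β₂).map (biprodSec B₁ B₂ U.1))
  let bB' := bB.reindex finSumFinEquiv
  let bA' := bA.reindex finSumFinEquiv
  obtain ⟨hsm, hn, Φ, hΦ, hM₁⟩ := exists_system k n hdim c₁ U α₁ bB' (span_appₗ_biprod A₁ B₁ B₂ U.1 hs₁₁ hs₁₂)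
  obtain ⟨-, -, Φ₂, hΦ₂, hM₂⟩ := exists_system k n hdim c₂ U α₂ β₂ hs₂₂
  let _ : Algebra k Γ(X, U.1) := (scalarRes k X U.1).toAlgebra
  let Ψ : Fin m₂ → Matrix (Fin (b₁ + b₂)) (Fin a₂) Γ(X, U.1) := fun l => Matrix.of fun r i =>
    Sum.elim (fun _ => 0) (fun r₂ => Φ₂ l r₂ i) (finSumFinEquiv.symm r)
  let Ψ₀ : Fin 0 → Matrix (Fin b₂) (Fin 0) Γ(X, U.1) := fun l => l.elim0
  obtain ⟨p, hp, h⟩ := exists_incidence_bound k Γ(X, U.1) n hn Φ hΦ Ψ hab
  obtain ⟨q, hq, h'⟩ := exists_incidence_bound k Γ(X, U.1) n hn Φ₂ hΦ₂ Ψ₀ (by omega : a₂ + 0 ≤ b₂)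
  let ρ : Fin m₂ ⊕ Fin 0 → Fin m₁ ⊕ Fin m₂ := Sum.elim Sum.inr Fin.elim0
  have hρ : Function.Injective ρ := by
    rintro (x | x) (y | y) hxy
    · exact congrArg _ (Sum.inr_injective hxy)
    · exact y.elim0
    · exact x.elim0
    · exact x.elim0
  refine ⟨p * rename ρ q, mul_ne_zero hp fun h0 => hq (rename_injective _ hρ (h0.trans (map_zero _).symm)),
    fun φ hφ hne P hP hle => ?_⟩
  rw [map_mul, mul_ne_zero_iff, eval_rename] at hne
  let v := c₁ (biprod.inl ≫ φ)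
  let w := c₂ (biprod.inr ≫ φ ≫ biprod.snd)
  rw [show Sum.elim v w ∘ ρ = Sum.elim w Fin.elim0 from funext fun z => match z with
    | .inl _ => rfl
    | .inr z => z.elim0] at hne
  -- the matrix of φ
  have hM : LinearMap.toMatrix bA bB' (appₗ φ U.1) =
      Matrix.fromCols (member k Γ(X, U.1) Φ v) (member k Γ(X, U.1) Ψ w) := by
    ext r (i | i)
    · rw [LinearMap.toMatrix_apply, Matrix.fromCols_apply_inl, ← hM₁, LinearMap.toMatrix_apply]
      refine congrArg (fun z => bB'.repr z r) ?_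
      refine congrArg (appₗ φ U.1) ?_
      change (biprodSec A₁ A₂ U.1) ((α₁.prod α₂) (Sum.inl i)) = appₗ biprod.inl U.1 (α₁ i)
      rw [Module.Basis.prod_apply, Sum.elim_inl]
      change appₗ biprod.inl U.1 (α₁ i) + appₗ biprod.inr U.1 0 = _
      rw [map_zero, add_zero]
    · rw [LinearMap.toMatrix_apply, Matrix.fromCols_apply_inr, member_apply]
      have hz : appₗ φ U.1 (bA (Sum.inr i)) = appₗ biprod.inr U.1 (appₗ (biprod.inr ≫ φ ≫ biprod.snd) U.1 (α₂ i)) := by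
        have h1 : biprod.inr ≫ φ = (biprod.inr ≫ φ ≫ biprod.snd) ≫ biprod.inr := by
          conv_lhs => rw [← Category.comp_id φ, ← biprod.total, Preadditive.comp_add, Preadditive.comp_add,
            ← Category.assoc φ, ← Category.assoc biprod.inr, hφ, zero_comp, zero_add]
          simp only [Category.assoc]
        refine (congrArg (appₗ φ U.1) ?_).trans congr(($h1).app U.1 (α₂ i))
        change (biprodSec A₁ A₂ U.1) ((α₁.prod α₂) (Sum.inr i)) = appₗ biprod.inr U.1 (α₂ i)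
        rw [Module.Basis.prod_apply, Sum.elim_inr]
        change appₗ biprod.inl U.1 0 + appₗ biprod.inr U.1 (α₂ i) = _
        rw [map_zero, zero_add]
      have hrep : ∀ y : Γ(B₂, U.1), (bB'.repr (appₗ biprod.inr U.1 y)) r =
          Sum.elim (fun _ => 0) (fun r₂ => β₂.repr y r₂) (finSumFinEquiv.symm r) := by
        intro y
        have h2 : (biprodSec B₁ B₂ U.1).symm (appₗ biprod.inr U.1 y) = (0, y) := by
          rw [LinearEquiv.symm_apply_eq]
          change _ = appₗ biprod.inl U.1 0 + appₗ biprod.inr U.1 y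
          rw [map_zero, zero_add]
        rw [Module.Basis.repr_reindex, Finsupp.mapDomain_equiv_apply]
        change (β₁.prod β₂).repr ((biprodSec B₁ B₂ U.1).symm _) _ = _
        rw [h2]
        rcases finSumFinEquiv.symm r with r₁ | r₂ <;> simp
      rw [hz, hrep]
      simp only [Ψ, Matrix.of_apply]
      rcases finSumFinEquiv.symm r with r₁ | r₂
      · simp
      · simp only [Sum.elim_inr]
        rw [← LinearMap.toMatrix_apply, hM₂, member_apply]
  rw [ideal_sheafIdeal_cokernel hA hB φ U bA' bB',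
    show b₁ + b₂ - (b₁ + b₂ - (a₁ + a₂)) = a₁ + a₂ by omega,
    show LinearMap.toMatrix bA' bB' (appₗ φ U.1) =
      (LinearMap.toMatrix bA bB' (appₗ φ U.1)).submatrix (Equiv.refl _) finSumFinEquiv.symm by
        ext r i
        simp [bA', LinearMap.toMatrix_apply],
    minorIdeal_submatrix, hM] at hle
  obtain ⟨d, hd⟩ : ∃ d : ℕ, ringKrullDim (Γ(X, U.1) ⧸ P) = d := by
    haveI := hP
    haveI : Algebra.FiniteType k Γ(X, U.1) := inferInstance
    haveI : Algebra.FiniteType k (Γ(X, U.1) ⧸ P) :=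
      Algebra.FiniteType.of_surjective (Ideal.Quotient.mkₐ k P) Ideal.Quotient.mk_surjective
    obtain ⟨d, -, hd, -⟩ := Groth.Variety2.Dim.exists_dim k (Γ(X, U.1) ⧸ P)
    exact ⟨d, hd⟩
  rw [hd]
  by_cases hsmall : minorIdeal a₂ (member k Γ(X, U.1) Φ₂ w) ≤ P
  · have h1 := h' w Fin.elim0 hne.2 P hP ?_ fun h0 => hP.ne_top (top_le_iff.1 ((minorIdeal_zero _).ge.trans h0))
    · rw [hd] at h1
      norm_cast at h1 ⊢
      omega
    · rw [show Matrix.fromCols (member k Γ(X, U.1) Φ₂ w) (member k Γ(X, U.1) Ψ₀ Fin.elim0) =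
          (member k Γ(X, U.1) Φ₂ w).submatrix (Equiv.refl _) (Equiv.sumEmpty (Fin a₂) (Fin 0)) from
        Matrix.ext fun r c => match c with
          | .inl _ => rfl
          | .inr c => c.elim0, minorIdeal_submatrix]
      exact hsmall
  · have h1 := h v w hne.1 P hP hle fun h0 => hsmall (Ideal.span_le.2 ?_)
    · rw [hd] at h1
      norm_cast at h1 ⊢
      omega
    · rintro _ ⟨ab, rfl⟩
      refine h0 ?_
      have h2 := det_mem_minorIdeal (r := a₂) (member k Γ(X, U.1) Ψ w) (fun s => finSumFinEquiv (Sum.inr (ab.1 s))) ab.2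
      have h3 : (member k Γ(X, U.1) Φ₂ w).submatrix ab.1 ab.2 = (member k Γ(X, U.1) Ψ w).submatrix
          (fun s => finSumFinEquiv (Sum.inr (ab.1 s))) ab.2 := by
        ext s t
        simp only [Matrix.submatrix_apply, member_apply, Ψ, Matrix.of_apply, Equiv.symm_apply_apply, Sum.elim_inr]
      simp only [h3]
      exact h2

end Groth.CohTwo.Degeneracy
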