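import Groth.Agent.CohTwo.Degeneracy.Determinantal
import Groth.Agent.LocFree.Basic
import Groth.Agent.LocFree.Hom
import Groth.Agent.LocFree.Rank
import Groth.Agent.RefRank.FittSheaf
import Groth.Agent.CohTwo.SheafHomIso
import Groth.Agent.VarietyBC.GGen
import Groth.Prelude.Def_KLin

/-!
# Morphisms of bundles on an affine open as matrices
-/

universe u

open CategoryTheory CategoryTheory.Limits AlgebraicGeometry Opposite TopologicalSpace

namespace Groth.CohTwo.Degeneracy

open Groth.QCohMod (germ appₗ)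
open Groth.RefRank

/-- The Fitting ideals of the cokernel of a map of free modules are ideals of minors. -/
theorem fitt_cokernel {R P N Q : Type*} [CommRing R] [AddCommGroup P] [Module R P] [AddCommGroup N]
    [Module R N] [AddCommGroup Q] [Module R Q] {e f : ℕ} (a : Module.Basis (Fin e) R P)
    (b : Module.Basis (Fin f) R N) (g : P →ₗ[R] N) (q : N →ₗ[R] Q) (hq : Function.Surjective q)
    (hex : Function.Exact g q) (i : ℕ) :
    Fitt.ideal R Q i = minorIdeal (f - i) (LinearMap.toMatrix a b g) := by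
  classical
  let M := LinearMap.toMatrix a b g
  have hx : Submodule.span R (Set.range fun j => q (b j)) = ⊤ := by
    have h := congrArg (Submodule.map q) b.span_eq
    rw [Submodule.map_span, ← Set.range_comp, Submodule.map_top, LinearMap.range_eq_top.2 hq] at h
    exact h
  have hrel : Groth.Misc3Fitt.rel (R := R) (fun j => q (b j)) = Submodule.span R (Set.range M.transpose) := by
    have hM : M.transpose = fun t => (b.equivFun (g (a t))) := by
      funext t j
      exact LinearMap.toMatrix_apply a b g j t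
    refine SetLike.ext fun c => ?_
    rw [Groth.Misc3Fitt.mem_rel, show (∑ j, c j • q (b j)) = q (b.equivFun.symm c) by
      simp [Module.Basis.equivFun_symm_apply, map_sum], hex (b.equivFun.symm c)]
    rw [hM, show (Set.range fun t => b.equivFun (g (a t))) = (b.equivFun.toLinearMap.comp g) '' Set.range a by
      rw [← Set.range_comp]; rfl, ← Submodule.map_span, a.span_eq, Submodule.map_top, LinearMap.mem_range]
    exact ⟨fun ⟨x, hx⟩ => ⟨x, (congrArg b.equivFun hx).trans (b.equivFun.apply_symm_apply c)⟩,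
      fun ⟨x, hx⟩ => ⟨x, b.equivFun.eq_symm_apply.2 hx⟩⟩
  rw [Groth.Misc3Fitt.ideal_eq_fitt _ hx, Groth.Misc3Fitt.fitt, hrel, Groth.Misc3Fitt.minors_span_eq]
  refine le_antisymm (Ideal.span_le.2 ?_) (Ideal.span_le.2 ?_)
  · rintro _ ⟨z, s, hz, rfl⟩
    choose t ht using hz
    have h1 : (Matrix.of fun x y => z y (s x)) = M.submatrix s t := by
      ext x y
      simp [← ht, Matrix.transpose_apply]
    rw [← Groth.Misc3Fitt.minor_transpose, h1]
    exact det_mem_minorIdeal _ _ _
  · rintro _ ⟨st, rfl⟩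
    refine Ideal.subset_span ⟨fun y => M.transpose (st.2 y), st.1, fun y => ⟨_, rfl⟩, ?_⟩
    rw [← Groth.Misc3Fitt.minor_transpose]
    rfl

variable {X : Scheme.{u}}

/-- The Fitting ideals of a cokernel on an affine open with bases. -/
theorem ideal_sheafIdeal_cokernel [IsLocallyNoetherian X] {E F : X.Modules} (hE : Coh.IsCoh E) (hF : Coh.IsCoh F)
    (φ : E ⟶ F) (U : X.affineOpens) {e f : ℕ} (a : Module.Basis (Fin e) Γ(X, U.1) Γ(E, U.1))
    (b : Module.Basis (Fin f) Γ(X, U.1) Γ(F, U.1)) (i : ℕ) :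
    (Fitt.sheafIdeal (cokernel φ) i).ideal U = minorIdeal (f - i) (LinearMap.toMatrix a b (appₗ φ U.1)) := by
  have := hE.1
  have := hF.1
  have hc := Groth.QCohMod.isCoh_cokernel φ hF
  have := hc.1
  rw [Groth.RefRank.FittSheaf.sheafIdeal_ideal _ hc.2]
  refine fitt_cokernel a b (appₗ φ U.1) (appₗ (cokernel.π φ) U.1)
    (Groth.QCohMod.app_surjective_of_epi (cokernel.π φ) U.2) (fun y => ⟨fun hy => ?_, ?_⟩) i
  · exact Groth.QCohMod.exists_app_eq_of_exact (S := ShortComplex.mk φ (cokernel.π φ) (cokernel.condition φ))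
      (ShortComplex.exact_of_g_is_cokernel _ (cokernelIsCokernel φ)) U.2 y hy
  · rintro ⟨x, rfl⟩
    exact congr($(congrArg (fun ψ : E ⟶ cokernel φ => ψ.app U.1) (cokernel.condition φ)) x)

variable {E F : X.Modules}

theorem applySec_add {U V : X.Opens} (g : Γ(RefHull.homSh E F, U)) (h : V ≤ U) (m m' : Γ(E, V)) :
    applySec g h (m + m') = applySec g h m + applySec g h m' :=
  mod_section_ext F fun x hx => by simp only [map_add, germ_applySec]

theorem applySec_zero {U V : X.Opens} (g : Γ(RefHull.homSh E F, U)) (h : V ≤ U) :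
    applySec g h (0 : Γ(E, V)) = 0 :=
  mod_section_ext F fun x hx => by simp only [map_zero, germ_applySec]

theorem applySec_smul {U V : X.Opens} (g : Γ(RefHull.homSh E F, U)) (h : V ≤ U) (r : Γ(X, V)) (m : Γ(E, V)) :
    applySec g h (r • m) = r • applySec g h m :=
  mod_section_ext F fun x hx => by
    rw [germ_applySec, Groth.QCohMod.germ_smul, Groth.QCohMod.germ_smul, map_smul, germ_applySec]

/-- The morphism of a global section of the sheaf Hom. -/
noncomputable def homOfSec (t : Γ(RefHull.homSh E F, ⊤)) : E ⟶ F :=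
  ⟨PresheafOfModules.homMk
    { app := fun V => AddCommGrpCat.ofHom
        { toFun := fun m => applySec t (le_top : V.unop ≤ ⊤) m
          map_zero' := applySec_zero t _
          map_add' := fun m m' => applySec_add t _ m m' }
      naturality := fun V W i => by
        ext m
        exact (res_applySec t le_top i.unop.le m).symm }
    fun V r m => applySec_smul t (le_top : V.unop ≤ ⊤) r m⟩

theorem appₗ_homOfSec (t : Γ(RefHull.homSh E F, ⊤)) (U : X.Opens) :
    appₗ (homOfSec t) U = secToLin (Groth.QCohMod.res (RefHull.homSh E F) (le_top : U ≤ ⊤) t) :=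
  LinearMap.ext fun m => mod_section_ext F fun x hx => by
    rw [germ_secToLin, res_val]
    exact germ_applySec t le_top m x hx

/-- Spanning at every stalk is spanning on affine opens. -/
theorem span_eq_top_of_stalks (G : X.Modules) [G.IsQuasicoherent] {U : X.Opens} (hU : IsAffineOpen U)
    (S : Set Γ(G, U))
    (h : ∀ x (hx : x ∈ U), Submodule.span (X.presheaf.stalk x) (germ G x hx '' S) = ⊤) :
    Submodule.span Γ(X, U) S = ⊤ := by
  rw [eq_top_iff]
  intro s _
  let J : Ideal Γ(X, U) := (Submodule.span Γ(X, U) S).comap (LinearMap.toSpanSingleton Γ(X, U) Γ(G, U) s)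
  suffices J = ⊤ by
    have h1 : (1 : Γ(X, U)) ∈ J := this ▸ Submodule.mem_top
    simpa [J] using h1
  by_contra hJ
  obtain ⟨M, hM, hJM⟩ := Ideal.exists_le_maximal J hJ
  let p : PrimeSpectrum Γ(X, U) := ⟨M, hM.isPrime⟩
  have hxU : hU.fromSpec p ∈ U := by
    rw [← SetLike.mem_coe, ← hU.range_fromSpec]; exact ⟨p, rfl⟩
  have hp : hU.primeIdealOf ⟨hU.fromSpec p, hxU⟩ = p :=
    hU.fromSpec.isOpenEmbedding.injective (hU.fromSpec_primeIdealOf ⟨_, hxU⟩)
  let x := hU.fromSpec p
  have hQ : ∀ v : G.presheaf.stalk x, ∃ c : Γ(X, U), x ∈ X.basicOpen c ∧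
      ∃ s' ∈ Submodule.span Γ(X, U) S, X.presheaf.germ U x hxU c • v = germ G x hxU s' := by
    intro v
    have hv : v ∈ Submodule.span (X.presheaf.stalk x) (germ G x hxU '' S) := (h x hxU).ge Submodule.mem_top
    have h1 : x ∈ X.basicOpen (1 : Γ(X, U)) := by
      rw [Scheme.basicOpen_of_isUnit _ isUnit_one]; exact hxU
    induction hv using Submodule.span_induction with
    | mem v hv =>
      obtain ⟨s', hs', rfl⟩ := hv
      exact ⟨1, h1, s', Submodule.subset_span hs', by rw [map_one, one_smul]⟩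
    | zero => exact ⟨1, h1, 0, Submodule.zero_mem _, by rw [map_zero, smul_zero]⟩
    | add v w _ _ hv hw =>
      obtain ⟨c, hc, s₁, hs₁, e₁⟩ := hv
      obtain ⟨d, hd, s₂, hs₂, e₂⟩ := hw
      refine ⟨c * d, by rw [Scheme.basicOpen_mul]; exact ⟨hc, hd⟩, d • s₁ + c • s₂,
        Submodule.add_mem _ (Submodule.smul_mem _ _ hs₁) (Submodule.smul_mem _ _ hs₂), ?_⟩
      rw [map_add, Groth.QCohMod.germ_smul, Groth.QCohMod.germ_smul, ← e₁, ← e₂, map_mul, smul_add, smul_smul,
        smul_smul, mul_comm (X.presheaf.germ U x hxU d)]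
    | smul r v _ hv =>
      obtain ⟨c, hc, s₁, hs₁, e₁⟩ := hv
      obtain ⟨r₁, d, hd, hdr⟩ := exists_mul_germ_eq hU hxU r
      refine ⟨d * c, by rw [Scheme.basicOpen_mul]; exact ⟨hd, hc⟩, r₁ • s₁, Submodule.smul_mem _ _ hs₁, ?_⟩
      rw [Groth.QCohMod.germ_smul, ← e₁, ← hdr, map_mul, smul_smul, smul_smul]
      congr 1
      ring
  obtain ⟨c, hc, s', hs', e⟩ := hQ (germ G x hxU s)
  rw [← Groth.QCohMod.germ_smul, ← sub_eq_zero, ← map_sub] at e
  obtain ⟨d, hd, hd0⟩ := Groth.QCohMod.exists_smul_eq_zero_of_germ_eq_zero G hU x hxU _ e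
  rw [smul_sub, sub_eq_zero, smul_smul] at hd0
  have hmem : d * c ∈ J := by
    change (d * c) • s ∈ Submodule.span Γ(X, U) S
    rw [hd0]
    exact Submodule.smul_mem _ _ hs'
  have hnot := (Groth.QCohMod.mem_basicOpen_iff_notMem_primeIdealOf hU (d * c) x hxU).1
    (by rw [Scheme.basicOpen_mul]; exact ⟨hd, hc⟩)
  rw [hp] at hnot
  exact hnot (hJM hmem)

/-- If the sheaf Hom is globally generated, the global morphisms span the linear maps on affine opens. -/
theorem span_appₗ_eq_top (hE : FlatMod.IsFinLocFree E) (hF : FlatMod.IsFinLocFree F) [DCoh.HasSheafHom E]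
    (hgg : Curv2.IsGloballyGenerated ((DCoh.sheafHom E).obj F)) {U : X.Opens} (hU : IsAffineOpen U) :
    Submodule.span Γ(X, U) (Set.range fun φ : E ⟶ F => appₗ φ U) = ⊤ := by
  have := Groth.KTheory.LocFree.isQCoh hE
  have := Groth.KTheory.LocFree.isQCoh hF
  have := Groth.LocFree.isQCoh_homSh_of_isFinLocFree (G := F) hE
  obtain ⟨ι, p, hp⟩ := hgg
  have hgg' : Curv2.IsGloballyGenerated (RefHull.homSh E F) :=
    ⟨ι, p ≫ (SheafHomIso.iso E F).hom, epi_comp _ _⟩
  let S : Set Γ(RefHull.homSh E F, U) :=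
    Set.range fun t => Groth.QCohMod.res (RefHull.homSh E F) (le_top : U ≤ ⊤) t
  have hS : Submodule.span Γ(X, U) S = ⊤ := by
    refine span_eq_top_of_stalks _ hU S fun x hx => ?_
    rw [eq_top_iff, ← Groth.VarietyBC.GGen.spansStalks hgg' x, Submodule.span_le]
    rintro _ ⟨t, rfl⟩
    exact Submodule.subset_span ⟨_, ⟨t, rfl⟩, Groth.QCohMod.germ_res _ _ x hx t⟩
  have h2 := congrArg (Submodule.map (secLinEquiv (G := F) hU).toLinearMap) hS
  rw [Submodule.map_span, Submodule.map_top, LinearEquiv.range] at h2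
  rw [eq_top_iff, ← h2]
  refine Submodule.span_mono ?_
  rintro _ ⟨_, ⟨t, rfl⟩, rfl⟩
  exact ⟨homOfSec t, appₗ_homOfSec t U⟩

/-- The scalars on an open. -/
noncomputable def scalarRes (k : Type u) [CommRing k] (X : Scheme.{u}) [X.Over (Spec (CommRingCat.of k))]
    (U : X.Opens) : k →+* Γ(X, U) :=
  (X.presheaf.map (homOfLE (le_top : U ≤ ⊤)).op).hom.comp (Coh.toGlobal (X ↘ Spec (CommRingCat.of k)))

theorem appₗ_add (φ ψ : E ⟶ F) (U : X.Opens) : appₗ (φ + ψ) U = appₗ φ U + appₗ ψ U := rfl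

theorem appₗ_smul (k : Type u) [CommRing k] [X.Over (Spec (CommRingCat.of k))] (c : k) (φ : E ⟶ F) (U : X.Opens) :
    appₗ (c • φ) U = scalarRes k X U c • appₗ φ U :=
  LinearMap.ext fun m => KLin.smul_app_apply c φ U m

theorem appₗ_sum_smul (k : Type u) [CommRing k] [X.Over (Spec (CommRingCat.of k))] {m : ℕ} (v : Fin m → k)
    (φ : Fin m → (E ⟶ F)) (U : X.Opens) :
    appₗ (∑ l, v l • φ l) U = ∑ l, scalarRes k X U (v l) • appₗ (φ l) U := by
  let L : (E ⟶ F) →+ (Γ(E, U) →ₗ[Γ(X, U)] Γ(F, U)) := AddMonoidHom.mk' (fun ψ => appₗ ψ U) fun a b => appₗ_add a b U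
  change L (∑ l, v l • φ l) = _
  rw [map_sum]
  exact Finset.sum_congr rfl fun l _ => appₗ_smul k (v l) (φ l) U

end Groth.CohTwo.Degeneracy
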