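import Groth.Agent.CohTwo.Degeneracy.Charts
import Groth.Agent.CohTwo.Degeneracy.Sections
import Groth.Agent.Variety2.DimScheme
import Groth.Agent.KTheory.LocFree
import Mathlib.AlgebraicGeometry.Morphisms.Smooth
import Mathlib.AlgebraicGeometry.IdealSheaf.Subscheme

/-!
# Degeneracy loci near a point of an affine chart
-/

universe u

open CategoryTheory CategoryTheory.Limits AlgebraicGeometry Opposite TopologicalSpace

namespace Groth.CohTwo.Degeneracy

open Groth.QCohMod (appₗ)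

variable (k : Type u) [Field k] {X : Scheme.{u}} [X.Over (Spec (CommRingCat.of k))]

theorem smooth_scalarRes [Smooth (X ↘ Spec (CommRingCat.of k))] {U : X.Opens} (hU : IsAffineOpen U) :
    (scalarRes k X U).Smooth := by
  let s := X ↘ Spec (CommRingCat.of k)
  have h := HasRingHomProperty.appLE (P := @Smooth) s inferInstance ⟨⊤, isAffineOpen_top _⟩ ⟨U, hU⟩
    (fun _ _ => trivial)
  exact RingHom.Smooth.respectsIso.2 _ (Scheme.ΓSpecIso (CommRingCat.of k)).symm.commRingCatIsoToRingEquiv h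

theorem fromSpec_structure {U : X.Opens} (hU : IsAffineOpen U) :
    hU.fromSpec ≫ (X ↘ Spec (CommRingCat.of k)) = Spec.map (CommRingCat.ofHom (scalarRes k X U)) := by
  have h := IsAffineOpen.SpecMap_appLE_fromSpec (X ↘ Spec (CommRingCat.of k)) (isAffineOpen_top _) hU
    (fun _ _ => trivial)
  rw [← h, IsAffineOpen.fromSpec_top, Scheme.isoSpec_Spec_inv, ← Spec.map_comp]
  rfl

theorem topologicalKrullDim_eq_ringKrullDim {U : X.Opens} (hU : IsAffineOpen U) :
    topologicalKrullDim U.toScheme = ringKrullDim Γ(X, U) :=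
  (IsHomeomorph.topologicalKrullDim_eq _ (Scheme.homeoOfIso hU.isoSpec).isHomeomorph).trans
    (PrimeSpectrum.topologicalKrullDim_eq_ringKrullDim _)

set_option maxHeartbeats 1000000 in
/-- Degeneracy loci of general morphisms near the points of an affine chart with bases. -/
theorem chart_good_of_span [CharZero k] [IsIntegral X] [Smooth (X ↘ Spec (CommRingCat.of k))]
    [LocallyOfFiniteType (X ↘ Spec (CommRingCat.of k))] [IsLocallyNoetherian X]
    (n : ℕ) (hdim : topologicalKrullDim X = n) {E F : X.Modules} {e f : ℕ}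
    (hE : FlatMod.IsFinLocFree E) (hF : FlatMod.IsFinLocFree F) (r : ℕ) (hrf : r < f)
    {m : ℕ} (c : (E ⟶ F) ≃ₗ[k] (Fin m → k)) (U : X.affineOpens) [Nonempty U.1]
    (a : Module.Basis (Fin e) Γ(X, U.1) Γ(E, U.1)) (b : Module.Basis (Fin f) Γ(X, U.1) Γ(F, U.1))
    (hspan : Submodule.span Γ(X, U.1) (Set.range fun φ : E ⟶ F => appₗ φ U.1) = ⊤) :
    ∃ p : MvPolynomial (Fin m) k, p ≠ 0 ∧ ∀ φ : E ⟶ F, MvPolynomial.eval (c φ) p ≠ 0 →
      ∀ x : (Fitt.sheafIdeal (cokernel φ) (f - r - 1)).subscheme,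
        (Fitt.sheafIdeal (cokernel φ) (f - r - 1)).subschemeι x ∈ U.1 →
        (Fitt.sheafIdeal (cokernel φ) (f - r - 1)).subschemeι x ∉ (Fitt.sheafIdeal (cokernel φ) (f - r)).support →
        ∃ V : (Fitt.sheafIdeal (cokernel φ) (f - r - 1)).subscheme.affineOpens, x ∈ V.1 ∧
          (∀ z ∈ V.1, (Fitt.sheafIdeal (cokernel φ) (f - r - 1)).subschemeι z ∉
            (Fitt.sheafIdeal (cokernel φ) (f - r)).support) ∧
          Smooth (V.1.ι ≫ (Fitt.sheafIdeal (cokernel φ) (f - r - 1)).subschemeι ≫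
            (X ↘ Spec (CommRingCat.of k))) ∧
          ∀ 𝔪 : Ideal Γ((Fitt.sheafIdeal (cokernel φ) (f - r - 1)).subscheme, V.1), 𝔪.IsMaximal →
            𝔪.height + ((e - r) * (f - r) : ℕ) = (n : ℕ) := by
  classical
  letI : Algebra k Γ(X, U.1) := (scalarRes k X U.1).toAlgebra
  haveI : Algebra.Smooth k Γ(X, U.1) := RingHom.smooth_algebraMap.1 (smooth_scalarRes k U.2)
  have hn : ringKrullDim Γ(X, U.1) = n := by
    rw [← topologicalKrullDim_eq_ringKrullDim U.2,
      Groth.Variety2.Dim.dim_opens (X ↘ Spec (CommRingCat.of k)) U.1 ⟨_, (Classical.arbitrary U.1).2⟩, hdim]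
  let φl : Fin m → (E ⟶ F) := fun l => c.symm (Pi.single l 1)
  let Φ : Fin m → Matrix (Fin f) (Fin e) Γ(X, U.1) := fun l => LinearMap.toMatrix a b (appₗ (φl l) U.1)
  have hφ : ∀ φ : E ⟶ F, appₗ φ U.1 = ∑ l, algebraMap k Γ(X, U.1) (c φ l) • appₗ (φl l) U.1 := by
    intro φ
    have h : φ = ∑ l, c φ l • φl l := by
      apply c.injective
      simp only [map_sum, map_smul, φl, LinearEquiv.apply_symm_apply]
      exact pi_eq_sum_univ' (c φ)
    conv_lhs => rw [h]
    exact appₗ_sum_smul k _ _ _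
  have hΦ : Submodule.span Γ(X, U.1) (Set.range Φ) = ⊤ := by
    have h1 : Submodule.span Γ(X, U.1) (Set.range fun l => appₗ (φl l) U.1) = ⊤ := by
      rw [eq_top_iff, ← hspan, Submodule.span_le]
      rintro _ ⟨φ, rfl⟩
      change appₗ φ U.1 ∈ _
      rw [hφ φ]
      exact Submodule.sum_mem _ fun l _ => Submodule.smul_mem _ _ (Submodule.subset_span ⟨l, rfl⟩)
    have h2 := congrArg (Submodule.map (LinearMap.toMatrix a b).toLinearMap) h1
    rw [Submodule.map_span, ← Set.range_comp, Submodule.map_top, LinearEquiv.range] at h2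
    exact h2
  obtain ⟨p, hp, hgood⟩ := exists_good_system k Γ(X, U.1) n hn (r := r) Φ hΦ
  refine ⟨p, hp, fun φ hφp x hxU hx2 => ?_⟩
  have hcE : Coh.IsCoh E := Groth.KTheory.LocFree.isCoh hE
  have hcF : Coh.IsCoh F := Groth.KTheory.LocFree.isCoh hF
  have hM : LinearMap.toMatrix a b (appₗ φ U.1) = member k Γ(X, U.1) Φ (c φ) := by
    rw [hφ φ, map_sum]
    ext i j
    simp only [map_smul, Matrix.sum_apply, Matrix.smul_apply, smul_eq_mul, member_apply, Φ]
  let D := Fitt.sheafIdeal (cokernel φ) (f - r - 1)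
  let D2 := Fitt.sheafIdeal (cokernel φ) (f - r)
  let J := minorIdeal (r + 1) (member k Γ(X, U.1) Φ (c φ))
  let J₀ := minorIdeal r (member k Γ(X, U.1) Φ (c φ))
  have hJ : D.ideal U = J := by
    rw [ideal_sheafIdeal_cokernel hcE hcF φ U a b, hM, show f - (f - r - 1) = r + 1 by omega]
  have hJ₀ : D2.ideal U = J₀ := by
    rw [ideal_sheafIdeal_cokernel hcE hcF φ U a b, hM, show f - (f - r) = r by omega]
  let y := D.subschemeι x
  let P := U.2.primeIdealOf ⟨y, hxU⟩
  have hle : J ≤ P.asIdeal := by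
    intro g hg
    have hy : y ∈ D.support := by
      rw [← SetLike.mem_coe, ← D.range_subschemeι]; exact ⟨x, rfl⟩
    rw [D.mem_support_iff_of_mem hxU, Scheme.mem_zeroLocus_iff] at hy
    by_contra hgP
    exact hy g (hJ.symm ▸ hg) ((Groth.QCohMod.mem_basicOpen_iff_notMem_primeIdealOf U.2 g y hxU).2 hgP)
  have hnle : ¬ J₀ ≤ P.asIdeal := by
    intro h
    refine hx2 ?_
    rw [D2.mem_support_iff_of_mem hxU, Scheme.mem_zeroLocus_iff]
    intro g hg hgx
    exact (Groth.QCohMod.mem_basicOpen_iff_notMem_primeIdealOf U.2 g y hxU).1 hgx (h (hJ₀ ▸ hg))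
  obtain ⟨t, htP, htJ, hsm, hht⟩ := hgood (c φ) hφp P.asIdeal P.isPrime hle hnle
  let U' : X.affineOpens := X.affineBasicOpen t
  have hyU' : y ∈ U'.1 := (Groth.QCohMod.mem_basicOpen_iff_notMem_primeIdealOf U.2 t y hxU).2 htP
  let res : Γ(X, U.1) →+* Γ(X, U'.1) := (X.presheaf.map (homOfLE <| X.basicOpen_le t).op).hom
  letI : Algebra Γ(X, U.1) Γ(X, U'.1) := res.toAlgebra
  haveI : IsLocalization.Away t Γ(X, U'.1) := U.2.isLocalization_basicOpen t
  letI : Algebra k Γ(X, U'.1) := (scalarRes k X U'.1).toAlgebra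
  haveI : IsScalarTower k Γ(X, U.1) Γ(X, U'.1) := IsScalarTower.of_algebraMap_eq fun z => by
    change scalarRes k X U'.1 z = res (scalarRes k X U.1 z)
    exact congr($(X.presheaf.map_comp (homOfLE (le_top : U.1 ≤ ⊤)).op (homOfLE <| X.basicOpen_le t).op)
      (Coh.toGlobal (X ↘ Spec (CommRingCat.of k)) z))
  have hJ' : J.map (algebraMap Γ(X, U.1) Γ(X, U'.1)) = D.ideal U' := by
    rw [← hJ]; exact D.map_ideal_basicOpen U t
  obtain ⟨e1⟩ := nonempty_away_quotient_equiv k (A' := Γ(X, U'.1)) t 1 J (D.ideal U') hJ' 1 (map_one _)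
  rw [mul_one] at e1
  let e2 : (Γ(X, U'.1) ⧸ D.ideal U') ≃ₐ[k] Localization.Away (Ideal.Quotient.mk (D.ideal U') 1) :=
    (IsLocalization.atUnits _ (Submonoid.powers (Ideal.Quotient.mk (D.ideal U') 1))
      (Submonoid.powers_le.2 (by rw [map_one]; exact isUnit_one)) :
      (Γ(X, U'.1) ⧸ D.ideal U') ≃ₐ[Γ(X, U'.1) ⧸ D.ideal U'] _).restrictScalars k
  let e3 := e1.trans e2.symm
  haveI := hsm
  have hsm' : Algebra.Smooth k (Γ(X, U'.1) ⧸ D.ideal U') := Algebra.Smooth.of_equiv e3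
  let V : D.subscheme.affineOpens := ⟨D.subschemeι ⁻¹ᵁ U'.1, U'.2.preimage D.subschemeι⟩
  refine ⟨V, hyU', fun z hz hz2 => ?_, ?_, fun 𝔪 h𝔪 => ?_⟩
  · have hzU : D.subschemeι z ∈ U.1 := X.basicOpen_le t hz
    rw [D2.mem_support_iff_of_mem hzU, Scheme.mem_zeroLocus_iff] at hz2
    exact hz2 t (hJ₀.symm ▸ htJ) hz
  · let g := D.subschemeι ≫ (X ↘ Spec (CommRingCat.of k))
    let α : k →+* Γ(D.subscheme, V.1) := (D.subschemeι.app U'.1).hom.comp (scalarRes k X U'.1)
    have hα : α.Smooth := by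
      have h1 : (algebraMap k (Γ(X, U'.1) ⧸ D.ideal U')).Smooth := RingHom.smooth_algebraMap.2 hsm'
      have h2 := RingHom.Smooth.respectsIso.1 _ (D.subschemeObjIso U').symm.commRingCatIsoToRingEquiv h1
      convert h2 using 1
      change (D.subschemeι.app U'.1).hom.comp _ = _
      rw [D.subschemeι_app U']
      rfl
    have hfs : V.2.fromSpec ≫ g = Spec.map (CommRingCat.ofHom α) := by
      have h1 : Spec.map (D.subschemeι.app U'.1) ≫ U'.2.fromSpec = V.2.fromSpec ≫ D.subschemeι := by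
        have := IsAffineOpen.SpecMap_appLE_fromSpec D.subschemeι U'.2 V.2 le_rfl
        rwa [← Scheme.Hom.app_eq_appLE] at this
      rw [← Category.assoc, ← h1, Category.assoc, fromSpec_structure k U'.2, ← Spec.map_comp]
      rfl
    change Smooth (V.1.ι ≫ g)
    rw [show V.1.ι ≫ g = V.2.isoSpec.hom ≫ Spec.map (CommRingCat.ofHom α) from
      ((congrArg (· ≫ g) V.2.isoSpec_hom_fromSpec).symm.trans (Category.assoc _ _ _)).trans
        (congrArg (V.2.isoSpec.hom ≫ ·) hfs)]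
    have : Smooth (Spec.map (CommRingCat.ofHom α)) := (HasRingHomProperty.Spec_iff (P := @Smooth)).2 hα
    exact MorphismProperty.comp_mem _ _ _ (inferInstanceAs (Smooth V.2.isoSpec.hom)) this
  · let e4 := (D.subschemeObjIso U').commRingCatIsoToRingEquiv.trans e3.symm.toRingEquiv
    haveI := Ideal.map_isMaximal_of_equiv (p := 𝔪) e4
    have h := hht _ this
    rwa [e4.height_map 𝔪] at h

/-- Degeneracy loci of general morphisms near the points of an affine chart with bases. -/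
theorem chart_good [CharZero k] [IsIntegral X] [Smooth (X ↘ Spec (CommRingCat.of k))]
    [LocallyOfFiniteType (X ↘ Spec (CommRingCat.of k))] [IsLocallyNoetherian X]
    (n : ℕ) (hdim : topologicalKrullDim X = n) {E F : X.Modules} {e f : ℕ}
    (hE : FlatMod.IsFinLocFree E) (hF : FlatMod.IsFinLocFree F) [DCoh.HasSheafHom E]
    (hgg : Curv2.IsGloballyGenerated ((DCoh.sheafHom E).obj F)) (r : ℕ) (hrf : r < f)
    {m : ℕ} (c : (E ⟶ F) ≃ₗ[k] (Fin m → k)) (U : X.affineOpens) [Nonempty U.1]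
    (a : Module.Basis (Fin e) Γ(X, U.1) Γ(E, U.1)) (b : Module.Basis (Fin f) Γ(X, U.1) Γ(F, U.1)) :
    ∃ p : MvPolynomial (Fin m) k, p ≠ 0 ∧ ∀ φ : E ⟶ F, MvPolynomial.eval (c φ) p ≠ 0 →
      ∀ x : (Fitt.sheafIdeal (cokernel φ) (f - r - 1)).subscheme,
        (Fitt.sheafIdeal (cokernel φ) (f - r - 1)).subschemeι x ∈ U.1 →
        (Fitt.sheafIdeal (cokernel φ) (f - r - 1)).subschemeι x ∉ (Fitt.sheafIdeal (cokernel φ) (f - r)).support →
        ∃ V : (Fitt.sheafIdeal (cokernel φ) (f - r - 1)).subscheme.affineOpens, x ∈ V.1 ∧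
          (∀ z ∈ V.1, (Fitt.sheafIdeal (cokernel φ) (f - r - 1)).subschemeι z ∉
            (Fitt.sheafIdeal (cokernel φ) (f - r)).support) ∧
          Smooth (V.1.ι ≫ (Fitt.sheafIdeal (cokernel φ) (f - r - 1)).subschemeι ≫
            (X ↘ Spec (CommRingCat.of k))) ∧
          ∀ 𝔪 : Ideal Γ((Fitt.sheafIdeal (cokernel φ) (f - r - 1)).subscheme, V.1), 𝔪.IsMaximal →
            𝔪.height + ((e - r) * (f - r) : ℕ) = (n : ℕ) := chart_good_of_span k n hdim hE hF r hrf c U a b (span_appₗ_eq_top hE hF hgg U.2)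

end Groth.CohTwo.Degeneracy
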