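import Groth.Agent.CohTwo.Degeneracy.General

/-!
# A spanning linear system of matrices over a smooth affine domain

For general coefficients the locus where the member has rank exactly `r` is smooth of the expected
dimension.
-/

universe u

open Matrix MvPolynomial

namespace Groth.CohTwo.Degeneracy

/-- If the columns span, near every prime some maximal square set of columns is invertible. -/
theorem exists_submatrix_det_notMem {A : Type u} [CommRing A] {ι : Type} [Fintype ι] [DecidableEq ι] {m : ℕ}
    (L : Matrix ι (Fin m) A) (hL : Submodule.span A (Set.range L.col) = ⊤) (P : Ideal A) [P.IsPrime] :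
    ∃ τ : ι → Fin m, (L.submatrix id τ).det ∉ P := by
  classical
  let K := P.ResidueField
  let v : Fin m → ι → K := fun l i => algebraMap A K (L i l)
  have hspan : Submodule.span K (Set.range v) = ⊤ := by
    rw [eq_top_iff]
    intro x _
    have hg : ∀ y : ι → A, (fun i => algebraMap A K (y i)) ∈ Submodule.span K (Set.range v) := by
      intro y
      have hy : y ∈ Submodule.span A (Set.range L.col) := hL ▸ Submodule.mem_top
      induction hy using Submodule.span_induction with
      | mem y hy => obtain ⟨l, rfl⟩ := hy; exact Submodule.subset_span ⟨l, rfl⟩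
      | zero =>
        rw [show (fun i => algebraMap A K ((0 : ι → A) i)) = (0 : ι → K) from funext fun i => map_zero _]
        exact Submodule.zero_mem _
      | add a b _ _ ha hb =>
        rw [show (fun i => algebraMap A K ((a + b) i)) = (fun i => algebraMap A K (a i)) + fun i => algebraMap A K (b i)
          from funext fun i => map_add _ _ _]
        exact Submodule.add_mem _ ha hb
      | smul c a _ ha =>
        rw [show (fun i => algebraMap A K ((c • a) i)) = algebraMap A K c • fun i => algebraMap A K (a i)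
          from funext fun i => map_mul _ _ _]
        exact Submodule.smul_mem _ _ ha
    have hx : x = ∑ i, x i • (fun j => algebraMap A K ((Pi.single i (1 : A) : ι → A) j)) := by
      ext j
      simp [Finset.sum_apply, Pi.single_apply, apply_ite (algebraMap A K)]
    rw [hx]
    exact Submodule.sum_mem _ fun i _ => Submodule.smul_mem _ _ (hg _)
  obtain ⟨b, hb, hbspan, hbli⟩ := exists_linearIndependent K (Set.range v)
  haveI : Fintype b := Set.Finite.fintype ((Set.finite_range v).subset hb)
  let B := Module.Basis.mk hbli (by rw [Subtype.range_coe_subtype, Set.setOf_mem_eq, hbspan, hspan])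
  let e : ι ≃ b := (Pi.basisFun K ι).indexEquiv B
  choose τ hτ using fun i : ι => hb (e i).2
  refine ⟨τ, fun hdet => ?_⟩
  have h0 : ((L.submatrix id τ).map (algebraMap A K)).det = 0 := by
    change ((algebraMap A K).mapMatrix (L.submatrix id τ)).det = 0
    rw [← RingHom.map_det, Ideal.algebraMap_residueField_eq_zero]
    exact hdet
  have hcol : ((L.submatrix id τ).map (algebraMap A K)).col = fun i => ((e i : b) : ι → K) := by
    funext i
    exact hτ i
  have hli : LinearIndependent K ((L.submatrix id τ).map (algebraMap A K)).col := by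
    rw [hcol]
    exact hbli.comp _ e.injective
  have h1 := (Matrix.isUnit_iff_isUnit_det _).1 (Matrix.linearIndependent_cols_iff_isUnit.1 hli)
  rw [h0] at h1
  exact not_isUnit_zero h1

theorem minorIdeal_submatrix {A : Type u} [CommRing A] {p q p' q' : Type*} (k : ℕ) (M : Matrix p q A)
    (σ : p' ≃ p) (ρ : q' ≃ q) : minorIdeal k (M.submatrix σ ρ) = minorIdeal k M := by
  refine le_antisymm (Ideal.span_le.2 ?_) (Ideal.span_le.2 ?_)
  · rintro _ ⟨ab, rfl⟩
    exact det_mem_minorIdeal M (σ ∘ ab.1) (ρ ∘ ab.2)
  · rintro _ ⟨ab, rfl⟩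
    have h := det_mem_minorIdeal (r := k) (M.submatrix σ ρ) (σ.symm ∘ ab.1) (ρ.symm ∘ ab.2)
    rwa [show (M.submatrix σ ρ).submatrix (σ.symm ∘ ab.1) (ρ.symm ∘ ab.2) = M.submatrix ab.1 ab.2 by
      ext i j; simp] at h

/-- Localizing first or afterwards. -/
theorem nonempty_away_quotient_equiv (k : Type u) [CommRing k] {A A' : Type u} [CommRing A] [CommRing A']
    [Algebra k A] [Algebra k A'] [Algebra A A'] [IsScalarTower k A A'] (h d : A) [IsLocalization.Away h A']
    (J : Ideal A) (J' : Ideal A') (hJ : J.map (algebraMap A A') = J') (d' : A') (hd : algebraMap A A' d = d') :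
    Nonempty (Localization.Away (Ideal.Quotient.mk J (h * d)) ≃ₐ[k] Localization.Away (Ideal.Quotient.mk J' d')) := by
  subst hJ hd
  let T := Localization.Away (Ideal.Quotient.mk (J.map (algebraMap A A')) (algebraMap A A' d))
  let S := Localization.Away (Ideal.Quotient.mk J (h * d))
  let a : A →+* T :=
    (algebraMap (A' ⧸ J.map (algebraMap A A')) T).comp ((Ideal.Quotient.mk _).comp (algebraMap A A'))
  have ha : ∀ x ∈ J, a x = 0 := fun x hx => by
    change algebraMap (A' ⧸ J.map (algebraMap A A')) T (Ideal.Quotient.mk _ (algebraMap A A' x)) = 0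
    rw [Ideal.Quotient.eq_zero_iff_mem.2 (Ideal.mem_map_of_mem _ hx), map_zero]
  have hua : IsUnit (a h) := ((IsLocalization.Away.algebraMap_isUnit (S := A') h).map
    (Ideal.Quotient.mk (J.map (algebraMap A A')))).map (algebraMap (A' ⧸ J.map (algebraMap A A')) T)
  have hud : IsUnit (a d) := IsLocalization.Away.algebraMap_isUnit (S := T)
    (Ideal.Quotient.mk (J.map (algebraMap A A')) (algebraMap A A' d))
  let f := IsLocalization.Away.lift (S := S) (P := T) (Ideal.Quotient.mk J (h * d))
    (g := Ideal.Quotient.lift J a ha) (by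
      rw [Ideal.Quotient.lift_mk, map_mul]
      exact hua.mul hud)
  let b : A →+* S := (algebraMap (A ⧸ J) S).comp (Ideal.Quotient.mk J)
  have hu : IsUnit (b h) ∧ IsUnit (b d) := by
    rw [← IsUnit.mul_iff, ← map_mul]
    exact IsLocalization.Away.algebraMap_isUnit (S := S) (Ideal.Quotient.mk J (h * d))
  let b' := IsLocalization.Away.lift (S := A') (P := S) h (g := b) hu.1
  have hb' : ∀ x, b' (algebraMap A A' x) = b x := fun x => IsLocalization.Away.lift_eq _ _ _
  have hb0 : ∀ x ∈ J.map (algebraMap A A'), b' x = 0 := by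
    have : J.map (algebraMap A A') ≤ RingHom.ker b' := by
      rw [Ideal.map_le_iff_le_comap]
      intro x hx
      rw [Ideal.mem_comap, RingHom.mem_ker, hb']
      change algebraMap (A ⧸ J) S (Ideal.Quotient.mk J x) = 0
      rw [Ideal.Quotient.eq_zero_iff_mem.2 hx, map_zero]
    exact fun x hx => this hx
  let g := IsLocalization.Away.lift (S := T) (P := S) (Ideal.Quotient.mk (J.map (algebraMap A A')) (algebraMap A A' d))
    (g := Ideal.Quotient.lift _ b' hb0) (by
      rw [Ideal.Quotient.lift_mk, hb']
      exact hu.2)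
  have hf : ∀ x, f (b x) = a x := fun x => IsLocalization.Away.lift_eq _ _ _
  have hg : ∀ x, g (algebraMap _ T (Ideal.Quotient.mk _ x)) = b' x := fun x => IsLocalization.Away.lift_eq _ _ _
  have h12 : f.comp g = RingHom.id T := by
    refine IsLocalization.ringHom_ext
      (Submonoid.powers (Ideal.Quotient.mk (J.map (algebraMap A A')) (algebraMap A A' d))) ?_
    refine Ideal.Quotient.ringHom_ext ?_
    refine IsLocalization.ringHom_ext (Submonoid.powers h) (RingHom.ext fun x => ?_)
    change f (g (algebraMap _ T (Ideal.Quotient.mk _ (algebraMap A A' x)))) = a x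
    rw [hg, hb', hf]
  have h21 : g.comp f = RingHom.id S := by
    refine IsLocalization.ringHom_ext (Submonoid.powers (Ideal.Quotient.mk J (h * d))) ?_
    refine Ideal.Quotient.ringHom_ext (RingHom.ext fun x => ?_)
    change g (f (b x)) = b x
    rw [hf]
    exact (hg (algebraMap A A' x)).trans (hb' x)
  refine ⟨AlgEquiv.ofRingEquiv (f := RingEquiv.ofRingHom f g h12 h21) fun c => ?_⟩
  change f (algebraMap k S c) = algebraMap k T c
  rw [IsScalarTower.algebraMap_apply k (A ⧸ J) S, IsScalarTower.algebraMap_apply k A (A ⧸ J)]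
  change f (b (algebraMap k A c)) = _
  rw [hf, IsScalarTower.algebraMap_apply k (A' ⧸ J.map (algebraMap A A')) T,
    IsScalarTower.algebraMap_apply k A' (A' ⧸ J.map (algebraMap A A')), IsScalarTower.algebraMap_apply k A A']
  rfl

variable (k : Type u) [Field k] (A : Type u) [CommRing A] [Algebra k A]

theorem ringKrullDim_away [IsDomain A] [Algebra.FiniteType k A] (n : ℕ) (hn : ringKrullDim A = n)
    (h : A) (hh : h ≠ 0) : ringKrullDim (Localization.Away h) = n := by
  obtain ⟨n', -, hn', hht'⟩ := Groth.Variety2.Dim.exists_dim k A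
  have e : n' = n := by rw [hn] at hn'; exact_mod_cast hn'.symm
  subst e
  haveI : IsDomain (Localization.Away h) :=
    IsLocalization.isDomain_of_le_nonZeroDivisors _ (powers_le_nonZeroDivisors_of_noZeroDivisors hh)
  haveI : Algebra.FiniteType A (Localization.Away h) :=
    IsLocalization.finiteType_of_monoid_fg (Submonoid.powers h) _
  haveI : Algebra.FiniteType k (Localization.Away h) :=
    Algebra.FiniteType.trans (R := k) (S := A) inferInstance inferInstance
  haveI : IsJacobsonRing A := isJacobsonRing_of_finiteType (A := k)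
  obtain ⟨n₂, -, hn₂, hht₂⟩ := Groth.Variety2.Dim.exists_dim k (Localization.Away h)
  obtain ⟨M, hM⟩ := Ideal.exists_maximal (Localization.Away h)
  have hMA : (M.under A).IsMaximal := ((IsLocalization.isMaximal_iff_isMaximal_disjoint _ h M).1 hM).1
  have e2 := IsLocalization.height_under (Submonoid.powers h) M
  rw [hht' _ hMA, hht₂ _ hM] at e2
  rw [hn₂]
  congr 1
  exact_mod_cast e2.symm

/-- The member of a linear system of matrices with given coefficients. -/
def member {m : ℕ} {p q : Type*} (Φ : Fin m → Matrix p q A) (v : Fin m → k) : Matrix p q A :=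
  Matrix.of fun i j => ∑ l, algebraMap k A (v l) * Φ l i j

theorem member_apply {m : ℕ} {p q : Type*} (Φ : Fin m → Matrix p q A) (v : Fin m → k) (i : p) (j : q) :
    member k A Φ v i j = ∑ l, algebraMap k A (v l) * Φ l i j := rfl

/-- Extend an injection of the first `r` indices to a numbering of all of them. -/
theorem exists_extend {r f : ℕ} (a : Fin r → Fin f) (ha : Function.Injective a) :
    ∃ σ : Fin r ⊕ Fin (f - r) ≃ Fin f, ∀ i, σ (Sum.inl i) = a i := by
  classical
  have hc : Fintype.card {x : Fin f // x ∉ Set.range a} = f - r := by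
    rw [Fintype.card_subtype_compl, Fintype.card_fin]
    congr 1
    exact (Set.card_range_of_injective ha).trans (Fintype.card_fin r)
  exact ⟨(Equiv.sumCongr (Equiv.ofInjective a ha) (Fintype.equivFinOfCardEq hc).symm).trans
    (Equiv.sumCompl fun x => x ∈ Set.range a), fun i => rfl⟩

set_option maxHeartbeats 1000000 in
/-- For general coefficients the rank-`r` locus is smooth of codimension `(e-r)(f-r)`. -/
theorem exists_good_system [CharZero k] [IsDomain A] [Algebra.Smooth k A] (n : ℕ) (hn : ringKrullDim A = n)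
    {m e f r : ℕ} (Φ : Fin m → Matrix (Fin f) (Fin e) A)
    (hΦ : Submodule.span A (Set.range Φ) = ⊤) :
    ∃ p : MvPolynomial (Fin m) k, p ≠ 0 ∧ ∀ v : Fin m → k, eval v p ≠ 0 →
      ∀ P : Ideal A, P.IsPrime → minorIdeal (r + 1) (member k A Φ v) ≤ P →
        ¬ minorIdeal r (member k A Φ v) ≤ P →
        ∃ t : A, t ∉ P ∧ t ∈ minorIdeal r (member k A Φ v) ∧
          Algebra.Smooth k (Localization.Away (Ideal.Quotient.mk (minorIdeal (r + 1) (member k A Φ v)) t)) ∧
          ∀ 𝔪 : Ideal (Localization.Away (Ideal.Quotient.mk (minorIdeal (r + 1) (member k A Φ v)) t)),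
            𝔪.IsMaximal → 𝔪.height + ((e - r) * (f - r) : ℕ) = (n : ℕ) := by
  classical
  let L : Matrix (Fin f × Fin e) (Fin m) A := Matrix.of fun ij l => Φ l ij.1 ij.2
  have hL : Submodule.span A (Set.range L.col) = ⊤ := by
    let g : Matrix (Fin f) (Fin e) A →ₗ[A] (Fin f × Fin e → A) :=
      { toFun := fun M ij => M ij.1 ij.2, map_add' := fun _ _ => rfl, map_smul' := fun _ _ => rfl }
    have h1 := congrArg (Submodule.map g) hΦ
    rw [Submodule.map_span, ← Set.range_comp, Submodule.map_top] at h1
    exact h1.trans (LinearMap.range_eq_top.2 fun y => ⟨Matrix.of fun i j => y (i, j), rfl⟩)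
  let Chart := {τ : Fin f × Fin e → Fin m // (L.submatrix id τ).det ≠ 0} ×
    (Fin r ⊕ Fin (f - r) ≃ Fin f) × (Fin r ⊕ Fin (e - r) ≃ Fin e)
  haveI : Algebra.FiniteType k A := inferInstance
  -- the good coefficients of one chart
  have key : ∀ c : Chart, ∃ p : MvPolynomial (Fin m) k, p ≠ 0 ∧ ∀ v : Fin m → k, eval v p ≠ 0 →
      let d := ((member k A Φ v).submatrix c.2.1 c.2.2).toBlocks₁₁.det
      Algebra.Smooth k (Localization.Away (Ideal.Quotient.mk (minorIdeal (r + 1) (member k A Φ v))
          ((L.submatrix id c.1.1).det * d))) ∧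
        ∀ 𝔪 : Ideal (Localization.Away (Ideal.Quotient.mk (minorIdeal (r + 1) (member k A Φ v))
          ((L.submatrix id c.1.1).det * d))),
          𝔪.IsMaximal → 𝔪.height + ((e - r) * (f - r) : ℕ) = (n : ℕ) := by
    rintro ⟨⟨τ, hτ⟩, σ, ρ⟩
    let h := (L.submatrix id τ).det
    let A' := Localization.Away h
    haveI : IsDomain A' :=
      IsLocalization.isDomain_of_le_nonZeroDivisors _ (powers_le_nonZeroDivisors_of_noZeroDivisors hτ)
    haveI : Algebra.Smooth A A' := Algebra.Smooth.of_isLocalization_Away h
    haveI : Algebra.Smooth k A' := Algebra.Smooth.comp k A A'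
    have hn' : ringKrullDim A' = n := ringKrullDim_away k A n hn h hτ
    have hτinj : Function.Injective τ := by
      intro x y hxy
      by_contra hne
      exact hτ (Matrix.det_zero_of_column_eq hne fun i => by simp [hxy])
    let O := {l : Fin m // l ∉ Set.range τ}
    let ξ : ((Fin r ⊕ Fin (f - r)) × (Fin r ⊕ Fin (e - r))) ⊕ O ≃ Fin m :=
      (Equiv.sumCongr ((Equiv.prodCongr σ ρ).trans (Equiv.ofInjective τ hτinj)) (Equiv.refl O)).trans
        (Equiv.sumCompl fun l => l ∈ Set.range τ)
    let N : Matrix (((Fin r ⊕ Fin (f - r)) × (Fin r ⊕ Fin (e - r))) ⊕ O) (Fin m) A' :=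
      Matrix.of (Sum.elim (fun xy l => algebraMap A A' (Φ l (σ xy.1) (ρ xy.2)))
        fun o l => if o.1 = l then 1 else 0)
    let N₀ := N.submatrix id ξ
    let B : Matrix ((Fin r ⊕ Fin (f - r)) × (Fin r ⊕ Fin (e - r)))
        ((Fin r ⊕ Fin (f - r)) × (Fin r ⊕ Fin (e - r))) A' :=
      ((L.submatrix id τ).map (algebraMap A A')).submatrix (Equiv.prodCongr σ ρ) (Equiv.prodCongr σ ρ)
    have hN₀ : N₀ = Matrix.fromBlocks B (N₀.toBlocks₁₂) 0 1 := by
      ext x y
      rcases x with x | x <;> rcases y with y | y
      · rfl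
      · rfl
      · change (if x.1 = τ (Equiv.prodCongr σ ρ y) then (1 : A') else 0) = 0
        exact if_neg fun hx => x.2 ⟨_, hx.symm⟩
      · change (if x.1 = y.1 then (1 : A') else 0) = (1 : Matrix O O A') x y
        rw [Matrix.one_apply]
        exact if_congr Subtype.ext_iff.symm rfl rfl
    have hdet : IsUnit N₀.det := by
      rw [hN₀, Matrix.det_fromBlocks_zero₂₁, Matrix.det_one, mul_one, Matrix.det_submatrix_equiv_self]
      change IsUnit ((algebraMap A A').mapMatrix (L.submatrix id τ)).det
      rw [← RingHom.map_det]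
      exact IsLocalization.Away.algebraMap_isUnit h
    let N' : Matrix (Fin m) _ A' := N₀⁻¹.submatrix ξ.symm id
    have hN : N = N₀.submatrix id ξ.symm := by ext i j; simp [N₀]
    have hNN' : N * N' = 1 := by
      rw [hN, Matrix.submatrix_mul_equiv, Matrix.submatrix_id_id]
      exact Matrix.mul_nonsing_inv _ hdet
    have hN'N : N' * N = 1 := by
      rw [hN, ← Matrix.submatrix_mul _ _ _ id _ Function.bijective_id, Matrix.nonsing_inv_mul _ hdet,
        Matrix.submatrix_one_equiv]
    obtain ⟨p, hp, hgood⟩ := exists_good k A' N n hn' ((Fintype.card_congr ξ).trans (Fintype.card_fin m))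
      N' hNN' hN'N
    refine ⟨p, hp, fun v hv => ?_⟩
    obtain ⟨hsm, hht⟩ := hgood v hv
    let M' := memMat A' N fun l => algebraMap k A' (v l)
    have hM : ((member k A Φ v).submatrix σ ρ).map (algebraMap A A') = M' := by
      ext x y
      simp only [M', memMat, Matrix.map_apply, Matrix.submatrix_apply, member_apply, Matrix.mulVec,
        dotProduct, N, Matrix.of_apply, Sum.elim_inl, map_sum, map_mul,
        ← IsScalarTower.algebraMap_apply, Algebra.algebraMap_self, RingHom.id_apply]
      exact Finset.sum_congr rfl fun l _ => mul_comm _ _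
    obtain ⟨E⟩ := nonempty_away_quotient_equiv k (A' := A') h
      ((member k A Φ v).submatrix σ ρ).toBlocks₁₁.det (minorIdeal (r + 1) (member k A Φ v))
      (minorIdeal (r + 1) M')
      (by rw [← minorIdeal_submatrix (r + 1) (member k A Φ v) σ ρ, map_minorIdeal, hM])
      M'.toBlocks₁₁.det (by rw [RingHom.map_det, ← hM]; rfl)
    haveI : Algebra.Smooth k (Member k A' N v) := hsm
    refine ⟨Algebra.Smooth.of_equiv E.symm, fun 𝔪 h𝔪 => ?_⟩
    haveI := Ideal.map_isMaximal_of_equiv (p := 𝔪) E.toRingEquiv
    have h1 := hht _ this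
    rw [show (𝔪.map E.toRingEquiv).height = 𝔪.height from E.toRingEquiv.height_map 𝔪,
      Fintype.card_fin, Fintype.card_fin, mul_comm (f - r)] at h1
    exact h1
  choose p hp hgood using key
  refine ⟨∏ c, p c, Finset.prod_ne_zero_iff.2 fun c _ => hp c, fun v hv P hP hle hnle => ?_⟩
  rw [map_prod, Finset.prod_ne_zero_iff] at hv
  obtain ⟨τ, hτ⟩ := exists_submatrix_det_notMem L hL P
  have hex : ∃ ab : (Fin r → Fin f) × (Fin r → Fin e), ((member k A Φ v).submatrix ab.1 ab.2).det ∉ P := by
    by_contra hcon
    push Not at hcon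
    exact hnle (Ideal.span_le.2 (by rintro _ ⟨ab, rfl⟩; exact hcon ab))
  obtain ⟨⟨a, b⟩, hab⟩ := hex
  have hne : ((member k A Φ v).submatrix a b).det ≠ 0 := fun h0 => hab (h0 ▸ P.zero_mem)
  have ha : Function.Injective a := fun x y hxy => by
    by_contra hxy'
    exact hne (Matrix.det_zero_of_row_eq hxy' (funext fun i => by simp [hxy]))
  have hb : Function.Injective b := fun x y hxy => by
    by_contra hxy'
    exact hne (Matrix.det_zero_of_column_eq hxy' fun i => by simp [hxy])
  obtain ⟨σ, hσ⟩ := exists_extend a ha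
  obtain ⟨ρ, hρ⟩ := exists_extend b hb
  have hd : ((member k A Φ v).submatrix σ ρ).toBlocks₁₁.det = ((member k A Φ v).submatrix a b).det := by
    congr 1
    ext i j
    simp [Matrix.toBlocks₁₁, hσ, hρ]
  let c : Chart := (⟨τ, fun h0 => hτ (h0 ▸ P.zero_mem)⟩, σ, ρ)
  obtain ⟨hsm, hht⟩ := hgood c v (hv c (Finset.mem_univ _))
  refine ⟨(L.submatrix id τ).det * ((member k A Φ v).submatrix σ ρ).toBlocks₁₁.det, ?_, ?_, hsm, hht⟩
  · rw [hd]
    exact fun hmem => (hP.mem_or_mem hmem).elim hτ hab
  · rw [hd]
    exact Ideal.mul_mem_left _ _ (det_mem_minorIdeal _ _ _)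

end Groth.CohTwo.Degeneracy
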