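import Mathlib

/-!
# Matrices of rank at most `r` through vanishing minors
-/

universe u

open Matrix

namespace Groth.CohTwo.Degeneracy

variable {R S : Type*} [CommRing R] [CommRing S] {p q : Type*}

/-- All `(r+1)`-minors vanish. -/
def RankLE (r : ℕ) (M : Matrix p q R) : Prop :=
  ∀ (a : Fin (r + 1) → p) (b : Fin (r + 1) → q), (M.submatrix a b).det = 0

/-- The ideal of `r`-minors. -/
def minorIdeal (r : ℕ) (M : Matrix p q R) : Ideal R :=
  Ideal.span (Set.range fun ab : (Fin r → p) × (Fin r → q) => (M.submatrix ab.1 ab.2).det)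

theorem det_mem_minorIdeal {r : ℕ} (M : Matrix p q R) (a : Fin r → p) (b : Fin r → q) :
    (M.submatrix a b).det ∈ minorIdeal r M :=
  Ideal.subset_span ⟨(a, b), rfl⟩

theorem rankLE_iff {r : ℕ} {M : Matrix p q R} : RankLE r M ↔ minorIdeal (r + 1) M = ⊥ := by
  rw [minorIdeal, Ideal.span_eq_bot]
  exact ⟨fun h x hx => by obtain ⟨ab, rfl⟩ := hx; exact h _ _, fun h a b => h _ ⟨(a, b), rfl⟩⟩

theorem det_map_submatrix {r : ℕ} (f : R →+* S) (M : Matrix p q R) (a : Fin r → p) (b : Fin r → q) :
    ((M.map f).submatrix a b).det = f ((M.submatrix a b).det) :=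
  (f.map_det (M.submatrix a b)).symm

theorem map_minorIdeal {r : ℕ} (f : R →+* S) (M : Matrix p q R) :
    (minorIdeal r M).map f = minorIdeal r (M.map f) := by
  rw [minorIdeal, minorIdeal, Ideal.map_span, ← Set.range_comp]
  congr 1
  exact congrArg Set.range (funext fun ab => (det_map_submatrix f M ab.1 ab.2).symm)

theorem RankLE.map {r : ℕ} {M : Matrix p q R} (h : RankLE r M) (f : R →+* S) : RankLE r (M.map f) :=
  fun a b => by rw [det_map_submatrix, h a b, map_zero]

/-- A product through `r` indices has rank at most `r`. -/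
theorem rankLE_mul {r : ℕ} (U : Matrix p (Fin r) R) (V : Matrix (Fin r) q R) : RankLE r (U * V) := by
  intro a b
  let U' : Matrix (Fin (r + 1)) (Fin (r + 1)) R :=
    Matrix.of fun i j => if h : j.1 < r then U (a i) ⟨j.1, h⟩ else 0
  let V' : Matrix (Fin (r + 1)) (Fin (r + 1)) R :=
    Matrix.of fun i j => if h : i.1 < r then V ⟨i.1, h⟩ (b j) else 0
  have h : (U * V).submatrix a b = U' * V' := by
    ext i j
    simp only [Matrix.submatrix_apply, Matrix.mul_apply, U', V', Matrix.of_apply]
    rw [Fin.sum_univ_castSucc (fun x : Fin (r + 1) => _)]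
    simp
  rw [h, Matrix.det_mul, Matrix.det_eq_zero_of_column_eq_zero (Fin.last r) (A := U') (fun i => by simp [U']),
    zero_mul]

variable {r : ℕ} {α β : Type*}

/-- With an invertible corner, rank at most `r` determines the opposite block. -/
theorem block_eq_of_rankLE (M : Matrix (Fin r ⊕ α) (Fin r ⊕ β) R) (h : RankLE r M)
    (hu : IsUnit M.toBlocks₁₁.det) :
    M.toBlocks₂₂ = M.toBlocks₂₁ * M.toBlocks₁₁⁻¹ * M.toBlocks₁₂ := by
  ext i j
  let e : Fin (r + 1) ≃ Fin r ⊕ Fin 1 := finSumFinEquiv.symm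
  let a : Fin r ⊕ Fin 1 → Fin r ⊕ α := Sum.map id fun _ => i
  let b : Fin r ⊕ Fin 1 → Fin r ⊕ β := Sum.map id fun _ => j
  have h0 : (M.submatrix a b).det = 0 := by
    rw [← Matrix.det_submatrix_equiv_self e, Matrix.submatrix_submatrix]
    exact h _ _
  let C := (M.toBlocks₂₁).submatrix (fun _ : Fin 1 => i) id
  let B := (M.toBlocks₁₂).submatrix id (fun _ : Fin 1 => j)
  let D : Matrix (Fin 1) (Fin 1) R := Matrix.of fun _ _ => M.toBlocks₂₂ i j
  have hb : M.submatrix a b = Matrix.fromBlocks M.toBlocks₁₁ B C D := by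
    ext x y
    rcases x with x | x <;> rcases y with y | y <;> rfl
  haveI := Matrix.invertibleOfIsUnitDet _ hu
  rw [hb, Matrix.det_fromBlocks₁₁, IsUnit.mul_right_eq_zero hu] at h0
  rw [Matrix.det_fin_one] at h0
  rw [Matrix.sub_apply, sub_eq_zero, Matrix.invOf_eq_nonsing_inv] at h0
  refine h0.trans ?_
  simp [C, B, Matrix.mul_apply, Matrix.submatrix_apply]

/-- A matrix of rank at most `r` with invertible corner is a product through `r` indices. -/
theorem rankLE_fromBlocks (A : Matrix (Fin r) (Fin r) R) (hA : IsUnit A.det) (B : Matrix (Fin r) β R)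
    (C : Matrix α (Fin r) R) : RankLE r (Matrix.fromBlocks A B C (C * A⁻¹ * B)) := by
  have h : Matrix.fromBlocks A B C (C * A⁻¹ * B) =
      Matrix.of (Sum.elim (fun i => (1 : Matrix (Fin r) (Fin r) R) i) fun i => (C * A⁻¹) i) *
        Matrix.of (fun i => Sum.elim (A i) (B i)) := by
    ext x y
    rcases x with x | x <;> rcases y with y | y
    · simp [Matrix.mul_apply, Matrix.one_apply]
    · simp [Matrix.mul_apply, Matrix.one_apply]
    · change C x y = ((C * A⁻¹) * A) x y
      rw [Matrix.mul_assoc, Matrix.nonsing_inv_mul A hA, Matrix.mul_one]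
    · rfl
  rw [h]
  exact rankLE_mul _ _

end Groth.CohTwo.Degeneracy
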