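import Groth.Agent.Variety2.DimPoints

/-!
# Quotients by minimal primes when all closed points have the same height
-/

universe u

namespace Groth.CohTwo.Degeneracy

/-- In an algebra of finite type all of whose maximal ideals have height `d`, every component has dimension `d`. -/
theorem ringKrullDim_quotient_minimal (k R : Type u) [Field k] [CommRing R] [Algebra k R]
    [Algebra.FiniteType k R] (d : ℕ) (hd : ∀ 𝔪 : Ideal R, 𝔪.IsMaximal → 𝔪.height = d)
    (P : Ideal R) (hP : P ∈ minimalPrimes R) : ringKrullDim (R ⧸ P) = d := by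
  classical
  have hPp : P.IsPrime := Ideal.minimalPrimes_isPrime hP
  haveI : IsNoetherianRing R := Algebra.FiniteType.isNoetherianRing k R
  haveI : IsJacobsonRing R := isJacobsonRing_of_finiteType (A := k)
  haveI : Algebra.FiniteType k (R ⧸ P) :=
    Algebra.FiniteType.of_surjective (Ideal.Quotient.mkₐ k P) Ideal.Quotient.mk_surjective
  obtain ⟨n', -, hn', hht'⟩ := Groth.Variety2.Dim.exists_dim k (R ⧸ P)
  -- a closed point on this component and no other
  let others := (minimalPrimes.finite_of_isNoetherianRing R).toFinset.erase P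
  have hnle : ¬ others.inf id ≤ P := fun h => by
    obtain ⟨Q, hQ, hQP⟩ := (Ideal.IsPrime.inf_le' hPp).1 h
    simp only [others, Finset.mem_erase, Set.Finite.mem_toFinset] at hQ
    exact hQ.1 (le_antisymm hQP (hP.2 ⟨Ideal.minimalPrimes_isPrime hQ.2, bot_le⟩ hQP))
  obtain ⟨g, hg, hgP⟩ := Set.not_subset.1 hnle
  have hJ : P = sInf {J : Ideal R | P ≤ J ∧ J.IsMaximal} := (IsJacobsonRing.out' _ (Ideal.IsPrime.isRadical hPp)).symm
  obtain ⟨𝔪, ⟨hPm, hm⟩, hgm⟩ : ∃ 𝔪 ∈ {J : Ideal R | P ≤ J ∧ J.IsMaximal}, g ∉ 𝔪 := by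
    by_contra hcon
    push Not at hcon
    exact hgP (hJ ▸ Submodule.mem_sInf.2 hcon)
  have huniq : ∀ Q ∈ minimalPrimes R, Q ≤ 𝔪 → Q = P := fun Q hQ hQm => by
    by_contra hne
    refine hgm (hQm ?_)
    have h1 : others.inf id ≤ Q :=
      Finset.inf_le (f := id) (Finset.mem_erase.2 ⟨hne, (Set.Finite.mem_toFinset _).2 hQ⟩)
    exact h1 hg
  let m0 : PrimeSpectrum R := ⟨𝔪, hm.isPrime⟩
  have hd0 : Order.height m0 = d := by
    rw [← PrimeSpectrum.height_eq_orderHeight]
    exact hd 𝔪 hm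
  have h2 : ringKrullDim (R ⧸ P) ≤ d := by
    rw [hn']
    obtain ⟨S, hS1, hS2, hS3⟩ := Groth.Variety2.Dim.exists_series_eq_dim k R ⟨P, hPp⟩ n' hn' m0 hm hPm
    have h := Order.length_le_height (p := S) (x := m0) (by rw [hS2])
    rw [hS3, hd0] at h
    exact_mod_cast h
  refine le_antisymm h2 ?_
  have h3 : Order.height m0 ≤ (n' : ℕ∞) := Order.height_le_iff.2 fun l hl => by
    have hhead : P ≤ l.head.asIdeal := by
      obtain ⟨Q, hQ, hQl⟩ := Ideal.exists_minimalPrimes_le (I := (⊥ : Ideal R)) (J := l.head.asIdeal) bot_le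
      have : Q = P := huniq Q hQ (hQl.trans ((PrimeSpectrum.asIdeal_le_asIdeal _ _).2 (l.head_le_last.trans hl)))
      exact this ▸ hQl
    exact_mod_cast Groth.Variety2.Dim.length_le_of_le_head (A := R) ⟨P, hPp⟩ n' hn' l hhead
  rw [hd0] at h3
  rw [hn']
  exact_mod_cast h3

end Groth.CohTwo.Degeneracy
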