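import Groth.Agent.CohTwo.Degeneracy.SplitBases
import Groth.Agent.CohTwo.Degeneracy.FullRankSheaf
import Groth.Agent.Duality.PnMulPoly
import Groth.Agent.PnCoh.GlobalFun
import Groth.Agent.Duality.PnStalk
import Groth.Agent.SerreH0.Basic
import Groth.Agent.Variety2.ProjDim
import Groth.Agent.VBCurves.KrullSchmidt
import Groth.Agent.LocFree.Basic

/-!
# Candidate Gaeta resolutions on the projective plane
-/

universe u

open CategoryTheory CategoryTheory.Limits AlgebraicGeometry Opposite TopologicalSpace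
open Groth.Ega2Proj Groth.PnCoh Groth.Duality.Pn
open Groth.PicAux (Gen)

namespace Groth.CohTwo.Degeneracy.Gaeta

open Groth.QCohMod (appₗ)

variable {n : ℕ} {k : Type u} [Field k]

/-- Multiplication by a power of a coordinate carries chart generators to chart generators. -/
theorem exists_chart_map (a b : ℤ) (hab : a ≤ b) (i : Idx.{u} n) :
    ∃ ψ : Twist.twistProjSpace n k a ⟶ Twist.twistProjSpace n k b,
      ψ.app (stdOpen n k i) (chartGen a i) = chartGen b i := by
  obtain ⟨e, he⟩ : ∃ e : ℕ, b = a + e := ⟨(b - a).toNat, by omega⟩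
  refine ⟨mulEl (CohB1.polyGrading n k) (var_pow_mem i e) he, wval_ext fun x hx => ?_⟩
  refine (wval_mulEl (CohB1.polyGrading n k) (var_pow_mem i e) he _ _ x hx).trans ?_
  rw [wval_chartGen, wval_chartGen, lfrac, lfrac, lfrac, Localization.mk_mul, Localization.mk_eq_mk_iff,
    Localization.r_iff_exists]
  refine ⟨1, ?_⟩
  simp only [OneMemClass.coe_one, one_mul, Submonoid.coe_mul]
  rw [← pow_add, ← pow_add, ← pow_add]
  congr 1
  omega

/-- The generators of the structure sheaf on a chart, with the maps from the twists. -/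
theorem exists_structure_gen (i : Idx.{u} n) :
    ∃ g : Γ(Coh.structureModule (CohB1.ProjSpace n k), stdOpen n k i), Gen _ _ g ∧
      ∀ a : ℤ, a ≤ 0 → ∃ ψ : Twist.twistProjSpace n k a ⟶ Coh.structureModule (CohB1.ProjSpace n k),
        ψ.app (stdOpen n k i) (chartGen a i) = g := by
  obtain ⟨e⟩ := nonempty_twist_zero_iso (CohB1.polyGrading n k)
  let e' : Twist.twistProjSpace n k 0 ≅ Coh.structureModule (CohB1.ProjSpace n k) := e
  refine ⟨e'.hom.app _ (chartGen 0 i), (gen_chartGen 0 i).map e'.hom, fun a ha => ?_⟩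
  obtain ⟨ψ, hψ⟩ := exists_chart_map (k := k) a 0 ha i
  exact ⟨ψ ≫ e'.hom, congrArg (e'.hom.app _) hψ⟩

theorem isAffineOpen_stdOpen (i : Idx.{u} n) : IsAffineOpen (stdOpen n k i) :=
  Proj.isAffineOpen_basicOpen _ _
    ((MvPolynomial.mem_homogeneousSubmodule _ _).mpr (MvPolynomial.isHomogeneous_X k i.down)) Nat.one_pos

/-- A split sum of line bundles is locally free. -/
theorem isFinLocFreeOfRank_of_splitting {X : Scheme.{u}} {e : ℕ} {L : Fin e → X.Modules} {M : X.Modules}
    (d : Splitting L M) (h : ∀ x : X, ∃ (U : X.Opens) (g : ∀ i, Γ(L i, U)), x ∈ U ∧ ∀ i, Gen (L i) U (g i)) :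
    FlatMod.IsFinLocFreeOfRank e M := by
  classical
  rw [Groth.LocFree.isFinLocFreeOfRank_iff]
  intro x
  obtain ⟨U, g, hx, hg⟩ := h x
  refine ⟨U, fun i => (d.s i).app U (g i), hx, fun V hV => ?_⟩
  have hgV : ∀ i, Gen (L i) V (Groth.PicAux.res (L i) hV (g i)) := fun i W hW => by
    simpa using hg i W (hW.trans hV)
  have h1 : (fun r : Fin e → Γ(X, V) => ∑ i, r i • Groth.PicAux.res M hV ((d.s i).app U (g i))) =
      (d.basis (fun i => Groth.PicAux.res (L i) hV (g i)) hgV).equivFun.symm := by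
    funext r
    rw [Module.Basis.equivFun_symm_apply]
    refine Finset.sum_congr rfl fun i _ => ?_
    rw [Splitting.basis_apply, Groth.PicAux.app_res]
  rw [h1]
  exact LinearEquiv.bijective _

variable (k) (α₁ α₂ α₃ : ℕ)

/-- The source of a candidate resolution. -/
noncomputable abbrev src : (CohB1.ProjSpace 2 k).Modules := ∐ fun _ : Fin α₁ => Twist.twistProjSpace 2 k (-2)

/-- The target of a candidate resolution. -/
noncomputable abbrev tgt : (CohB1.ProjSpace 2 k).Modules :=
  (∐ fun _ : Fin α₂ => Twist.twistProjSpace 2 k (-1)) ⊞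
    (∐ fun _ : Fin α₃ => Coh.structureModule (CohB1.ProjSpace 2 k))

/-- What is needed of the two bundles: on each standard chart bases, and spanning global morphisms. -/
theorem exists_charts :
    FlatMod.IsFinLocFreeOfRank α₁ (src k α₁) ∧ FlatMod.IsFinLocFreeOfRank (α₂ + α₃) (tgt k α₂ α₃) ∧
    ∀ i : Idx.{u} 2, ∃ (_ : Module.Basis (Fin α₁) Γ(CohB1.ProjSpace 2 k, stdOpen 2 k i) Γ(src k α₁, stdOpen 2 k i))
      (_ : Module.Basis (Fin (α₂ + α₃)) Γ(CohB1.ProjSpace 2 k, stdOpen 2 k i) Γ(tgt k α₂ α₃, stdOpen 2 k i)),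
      Submodule.span Γ(CohB1.ProjSpace 2 k, stdOpen 2 k i)
        (Set.range fun φ : src k α₁ ⟶ tgt k α₂ α₃ => appₗ φ (stdOpen 2 k i)) = ⊤ := by
  classical
  obtain ⟨dA⟩ := nonempty_splitting_sigma (fun _ : Fin α₁ => Twist.twistProjSpace 2 k (-2))
  obtain ⟨d₂⟩ := nonempty_splitting_sigma (fun _ : Fin α₂ => Twist.twistProjSpace 2 k (-1))
  obtain ⟨d₃⟩ := nonempty_splitting_sigma (fun _ : Fin α₃ => Coh.structureModule (CohB1.ProjSpace 2 k))
  let dB := (d₂.biprod d₃).reindex finSumFinEquiv.symm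
  choose g₀ hg₀ hψ₀ using exists_structure_gen (n := 2) (k := k)
  let gB : ∀ (i : Idx.{u} 2) (t : Fin α₂ ⊕ Fin α₃),
      Γ(Sum.elim (fun _ => Twist.twistProjSpace 2 k (-1)) (fun _ => Coh.structureModule (CohB1.ProjSpace 2 k)) t,
        stdOpen 2 k i) := fun i t => match t with
    | .inl _ => chartGen (-1) i
    | .inr _ => g₀ i
  have hgB : ∀ i t, Gen _ (stdOpen 2 k i) (gB i t) := fun i t => match t with
    | .inl _ => gen_chartGen (-1) i
    | .inr _ => hg₀ i
  have hcov : ∀ x : (CohB1.ProjSpace 2 k), ∃ i : Idx.{u} 2, x ∈ stdOpen 2 k i := fun x =>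
    Opens.mem_iSup.1 ((iSup_stdOpen (n := 2) (R := k)).ge (Set.mem_univ x))
  refine ⟨isFinLocFreeOfRank_of_splitting dA fun x => ?_, isFinLocFreeOfRank_of_splitting dB fun x => ?_,
    fun i => ⟨dA.basis (fun _ => chartGen (-2) i) fun _ => gen_chartGen (-2) i,
      dB.basis (fun t => gB i (finSumFinEquiv.symm t)) fun t => hgB i _,
      span_appₗ_of_gens dA dB _ (fun _ => gen_chartGen (-2) i) _ (fun t => hgB i _) fun _ t => ?_⟩⟩
  · obtain ⟨i, hi⟩ := hcov x
    exact ⟨_, fun _ => chartGen (-2) i, hi, fun _ => gen_chartGen (-2) i⟩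
  · obtain ⟨i, hi⟩ := hcov x
    exact ⟨_, fun t => gB i (finSumFinEquiv.symm t), hi, fun t => hgB i _⟩
  · generalize finSumFinEquiv.symm t = s
    match s with
    | .inl _ => exact exists_chart_map (-2) (-1) (by norm_num) i
    | .inr _ => exact hψ₀ i (-2) (by norm_num)

end Groth.CohTwo.Degeneracy.Gaeta
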