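import Groth.Agent.CohTwo.Degeneracy.Universal
import Groth.Agent.Variety2.BertiniRing

/-!
# The general member has a smooth rank locus of the expected dimension
-/

universe u

open Matrix MvPolynomial

namespace Groth.CohTwo.Degeneracy

variable {r m : ℕ} {α β O : Type} [Fintype α] [Fintype β] [Fintype O]
variable (k : Type u) [Field k] (A : Type u) [CommRing A] [Algebra k A]
  (N : Matrix (((Fin r ⊕ α) × (Fin r ⊕ β)) ⊕ O) (Fin m) A)

/-- The rank locus of one member. -/
abbrev memberQuot (v : Fin m → k) : Type u :=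
  A ⧸ minorIdeal (r + 1) (memMat A N fun l => algebraMap k A (v l))

/-- The locus of rank exactly `r` of one member, near an invertible corner. -/
abbrev Member (v : Fin m → k) : Type u :=
  Localization.Away (Ideal.Quotient.mk (minorIdeal (r + 1) (memMat A N fun l => algebraMap k A (v l)))
    (memMat A N fun l => algebraMap k A (v l)).toBlocks₁₁.det)

/-- Heights in the fibre of a flat open piece of the incidence over a closed point. -/
theorem height_of_fibre {B C R Q : Type u} [CommRing B] [CommRing C] [CommRing R] [CommRing Q]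
    [Algebra B C] [Algebra B R] [Algebra C R] [IsScalarTower B C R] [IsNoetherianRing B] [IsNoetherianRing R] [IsJacobsonRing C]
    (p : B) [IsLocalization.Away (algebraMap B C p) R] [Module.Flat B R]
    (I : Ideal B) [hI : I.IsMaximal] {c n m : ℕ} (hIht : I.height = m)
    (hht : ∀ 𝔪 : Ideal C, 𝔪.IsMaximal → 𝔪.height + (c : ℕ) = ((n + m : ℕ) : ℕ∞))
    (e : Q ≃+* R ⧸ I.map (algebraMap B R)) (𝔪 : Ideal Q) [𝔪.IsMaximal] :
    𝔪.height + (c : ℕ) = (n : ℕ) := by
  let 𝔫 := 𝔪.map e
  haveI : 𝔫.IsMaximal := Ideal.map_isMaximal_of_equiv e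
  let P := 𝔫.comap (Ideal.Quotient.mk (I.map (algebraMap B R)))
  haveI hPmax : P.IsMaximal := Ideal.comap_isMaximal_of_surjective _ Ideal.Quotient.mk_surjective
  have hIP : I ≤ P.comap (algebraMap B R) := fun x hx => by
    change Ideal.Quotient.mk _ (algebraMap B R x) ∈ 𝔫
    rw [Ideal.Quotient.eq_zero_iff_mem.2 (Ideal.mem_map_of_mem _ hx)]
    exact zero_mem _
  haveI : P.LiesOver I := ⟨hI.eq_of_le (Ideal.comap_ne_top _ hPmax.ne_top) hIP⟩
  have h1 := Ideal.height_eq_height_add_of_liesOver_of_hasGoingDown I P
  rw [Ideal.map_comap_of_surjective _ Ideal.Quotient.mk_surjective, hIht, e.height_map] at h1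
  have h2 : (P.under C).IsMaximal :=
    ((IsLocalization.isMaximal_iff_isMaximal_disjoint R (algebraMap B C p) P).1 hPmax).1
  have h3 := hht _ h2
  rw [IsLocalization.height_under (Submonoid.powers (algebraMap B C p)) P, h1, Nat.cast_add, add_assoc,
    add_comm (n : ℕ∞)] at h3
  exact (ENat.add_right_injective_of_ne_top (ENat.coe_ne_top m)) h3

theorem memMat_map {B : Type*} [CommRing B] [Algebra A B] (y : Fin m → A) :
    (memMat A N y).map (algebraMap A B) = memMat A N fun l => algebraMap A B (y l) := by
  ext i j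
  simp [memMat, Matrix.mulVec, dotProduct, map_sum]

set_option maxHeartbeats 1000000 in
/-- For general coefficients the rank locus is smooth of the expected dimension. -/
theorem exists_good [CharZero k] [IsDomain A] [Algebra.Smooth k A] (n : ℕ) (hn : ringKrullDim A = n)
    [DecidableEq α] [DecidableEq β] [DecidableEq O]
    (hcard : Fintype.card (((Fin r ⊕ α) × (Fin r ⊕ β)) ⊕ O) = m)
    (N' : Matrix (Fin m) (((Fin r ⊕ α) × (Fin r ⊕ β)) ⊕ O) A) (hNN' : N * N' = 1) (hN'N : N' * N = 1) :
    ∃ p : MvPolynomial (Fin m) k, p ≠ 0 ∧ ∀ v : Fin m → k, eval v p ≠ 0 →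
      Algebra.Smooth k (Member k A N v) ∧
      ∀ 𝔪 : Ideal (Member k A N v), 𝔪.IsMaximal →
        𝔪.height + (Fintype.card α * Fintype.card β : ℕ) = (n : ℕ) := by
  classical
  obtain ⟨hdom, hsm, hht⟩ := props A N k n hn hcard N' hNN' hN'N
  let S := Inc A N
  let Pk := MvPolynomial (Fin m) k
  let π : MvPolynomial (Fin m) A →ₐ[A] S :=
    (IsScalarTower.toAlgHom A (RankQuot A N) S).comp (Ideal.Quotient.mkₐ A _)
  let φ : Pk →ₐ[k] S := aeval fun l => π (X l)
  letI := φ.toRingHom.toAlgebra
  haveI : IsScalarTower k Pk S := IsScalarTower.of_algebraMap_eq' φ.comp_algebraMap.symm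
  haveI : Algebra.Smooth k S := hsm
  haveI : IsDomain S := hdom
  obtain ⟨p, hp, hsm'⟩ := Groth.Variety2.Bertini.exists_smooth_away k Pk S
  refine ⟨p, hp, fun v hv => ?_⟩
  let R := Localization.Away (algebraMap Pk S p)
  haveI : Algebra.Smooth Pk R := hsm'
  let ev : Pk →ₐ[k] k := aeval v
  let I : Ideal Pk := RingHom.ker ev.toRingHom
  have hsurj : Function.Surjective ev.toRingHom := fun c => ⟨C c, ev.commutes c⟩
  haveI hI : I.IsMaximal := RingHom.ker_isMaximal_of_surjective _ hsurj
  have hIht : I.height = m := Groth.Variety2.Dim.height_isMaximal_mvPolynomial k m I hI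
  let F := R ⧸ I.map (algebraMap Pk R)
  haveI : Algebra.FiniteType k A := inferInstance
  haveI : Algebra.FiniteType Pk R := inferInstance
  haveI : Algebra.FiniteType k R := Algebra.FiniteType.trans (R := k) (S := Pk) inferInstance inferInstance
  haveI : IsNoetherianRing R := Algebra.FiniteType.isNoetherianRing k R
  haveI : Algebra.FiniteType k F := Algebra.FiniteType.of_surjective (Ideal.Quotient.mkₐ k _) Ideal.Quotient.mk_surjective
  -- the fibre is smooth over the field
  have hFsm : Algebra.Smooth k F := by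
    refine ⟨Algebra.FormallySmooth.of_comp_surjective fun B _ _ J hJ g => ?_,
      (Algebra.FinitePresentation.of_finiteType (R := k) (A := F)).1 inferInstance⟩
    let evB : Pk →ₐ[k] B := (Algebra.ofId k B).comp ev
    letI := evB.toRingHom.toAlgebra
    let g' : R →ₐ[Pk] B ⧸ J :=
      { toRingHom := g.toRingHom.comp (Ideal.Quotient.mk _)
        commutes' := fun x => by
          have hx : x - C (ev x) ∈ I := by
            change ev (x - C (ev x)) = 0
            rw [map_sub, show ev (C (ev x)) = ev x from ev.commutes (ev x), sub_self]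
          have h0 : Ideal.Quotient.mk (I.map (algebraMap Pk R)) (algebraMap Pk R (x - C (ev x))) = 0 :=
            Ideal.Quotient.eq_zero_iff_mem.2 (Ideal.mem_map_of_mem _ hx)
          rw [map_sub, map_sub, sub_eq_zero] at h0
          change g (Ideal.Quotient.mk _ (algebraMap Pk R x)) = Ideal.Quotient.mk J (algebraMap k B (ev x))
          rw [h0, ← MvPolynomial.algebraMap_eq, ← IsScalarTower.algebraMap_apply k Pk R]
          exact g.commutes _ }
    obtain ⟨ψ, hψ⟩ := Algebra.FormallySmooth.exists_lift J ⟨2, hJ⟩ g'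
    let ψk : R →ₐ[k] B :=
      { toRingHom := ψ.toRingHom
        commutes' := fun c => by
          change ψ (algebraMap k R c) = algebraMap k B c
          rw [IsScalarTower.algebraMap_apply k Pk R, ψ.commutes]
          exact evB.commutes c }
    have hker : ∀ x ∈ I.map (algebraMap Pk R), ψk x = 0 := by
      intro x hx
      induction hx using Submodule.span_induction with
      | mem x hx =>
        obtain ⟨i, hi, rfl⟩ := hx
        change ψ (algebraMap Pk R i) = 0
        rw [ψ.commutes]
        change algebraMap k B (ev i) = 0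
        rw [show ev i = 0 from hi, map_zero]
      | zero => exact map_zero _
      | add a b _ _ ha hb => rw [map_add, ha, hb, add_zero]
      | smul a b _ hb => rw [smul_eq_mul, map_mul, hb, mul_zero]
    refine ⟨Ideal.Quotient.liftₐ _ ψk hker, Ideal.Quotient.algHom_ext _ (AlgHom.ext fun x => ?_)⟩
    exact DFunLike.congr_fun hψ x
  -- the fibre is the member
  let Q := Member k A N v
  let y : Fin m → A := fun l => algebraMap k A (v l)
  let toF : A →ₐ[k] F :=
    (Ideal.Quotient.mkₐ k _).comp ((IsScalarTower.toAlgHom k S R).comp (IsScalarTower.toAlgHom k A S))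
  have hyl : ∀ l, Ideal.Quotient.mk (I.map (algebraMap Pk R)) (algebraMap S R (π (X l))) = toF (y l) := by
    intro l
    have hx : (X l - C (v l) : Pk) ∈ I := by
      change ev (X l - C (v l)) = 0
      rw [map_sub]
      exact sub_eq_zero.2 ((aeval_X _ l).trans (ev.commutes (v l)).symm)
    have h0 : Ideal.Quotient.mk (I.map (algebraMap Pk R)) (algebraMap Pk R (X l - C (v l))) = 0 :=
      Ideal.Quotient.eq_zero_iff_mem.2 (Ideal.mem_map_of_mem _ hx)
    rw [map_sub, map_sub, sub_eq_zero] at h0
    have e1 : algebraMap Pk R (X l) = algebraMap S R (π (X l)) := by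
      rw [IsScalarTower.algebraMap_apply Pk S R]
      exact congrArg _ (aeval_X _ l)
    rw [← e1, h0, ← MvPolynomial.algebraMap_eq, ← IsScalarTower.algebraMap_apply k Pk R]
    exact (toF.commutes (v l)).symm
  let σF : MvPolynomial (Fin m) A →+* F :=
    (Ideal.Quotient.mk _).comp ((algebraMap S R).comp π.toRingHom)
  have hσF : σF = toF.toRingHom.comp (MvPolynomial.eval y) := by
    refine MvPolynomial.ringHom_ext (fun a => ?_) fun l => ?_
    · change Ideal.Quotient.mk _ (algebraMap S R (π (C a))) = toF (eval y (C a))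
      rw [← MvPolynomial.algebraMap_eq, π.commutes]
      simp [toF]
    · change Ideal.Quotient.mk _ (algebraMap S R (π (X l))) = toF (eval y (X l))
      rw [hyl, eval_X]
  have hMy : (genMat A N).map (MvPolynomial.eval y) = memMat A N y := by
    have h := genMat_map A N (MvPolynomial.aeval (R := A) y)
    simp only [aeval_X] at h
    rw [← h]
    ext i j
    simp only [Matrix.map_apply]
    exact (DFunLike.congr_fun (MvPolynomial.coe_aeval_eq_eval y) _).symm
  have hkill : ∀ x ∈ minorIdeal (r + 1) (memMat A N y), toF x = 0 := by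
    intro x hx
    rw [← hMy, ← map_minorIdeal] at hx
    have h1 : (minorIdeal (r + 1) (genMat A N)).map (MvPolynomial.eval y) ≤ RingHom.ker toF.toRingHom := by
      rw [Ideal.map_le_iff_le_comap]
      intro z hz
      rw [Ideal.mem_comap, RingHom.mem_ker, ← RingHom.comp_apply, ← hσF]
      change Ideal.Quotient.mk _ (algebraMap S R (algebraMap (RankQuot A N) S (Ideal.Quotient.mk _ z))) = 0
      rw [Ideal.Quotient.eq_zero_iff_mem.2 hz, map_zero, map_zero, map_zero]
    exact h1 hx
  let qF : memberQuot k A N v →ₐ[k] F := Ideal.Quotient.liftₐ _ toF hkill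
  have hdet : (memMat A N y).toBlocks₁₁.det = MvPolynomial.eval y (genMat A N).toBlocks₁₁.det := by
    rw [RingHom.map_det, ← hMy]; rfl
  have hunit : IsUnit (toF (memMat A N y).toBlocks₁₁.det) := by
    rw [hdet]
    change IsUnit ((toF.toRingHom.comp (MvPolynomial.eval y)) _)
    rw [← hσF]
    change IsUnit (Ideal.Quotient.mk (I.map (algebraMap Pk R))
      (algebraMap S R (algebraMap (RankQuot A N) S (corner A N))))
    exact ((IsLocalization.Away.algebraMap_isUnit (S := S) (corner A N)).map (algebraMap S R)).map _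
  let f2' := IsLocalization.Away.lift (S := Q) (P := F)
    (Ideal.Quotient.mk (minorIdeal (r + 1) (memMat A N y)) (memMat A N y).toBlocks₁₁.det)
    (g := qF.toRingHom) hunit
  have hf2' : ∀ z, f2' (algebraMap (memberQuot k A N v) Q z) = qF z := fun z =>
    IsLocalization.Away.lift_eq _ _ _
  let f2 : Q →ₐ[k] F :=
    { toRingHom := f2'
      commutes' := fun c => by
        change f2' (algebraMap k Q c) = algebraMap k F c
        rw [IsScalarTower.algebraMap_apply k (memberQuot k A N v) Q, hf2', qF.commutes] }
  -- from the fibre to the member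
  let aQ : A →ₐ[k] Q :=
    (IsScalarTower.toAlgHom k (memberQuot k A N v) Q).comp (Ideal.Quotient.mkₐ k _)
  let σQ : MvPolynomial (Fin m) A →+* Q := aQ.toRingHom.comp (MvPolynomial.eval y)
  have hσQ : ∀ x ∈ minorIdeal (r + 1) (genMat A N), σQ x = 0 := by
    intro x hx
    have h1 := Ideal.mem_map_of_mem (MvPolynomial.eval y) hx
    rw [map_minorIdeal, hMy] at h1
    change algebraMap (memberQuot k A N v) Q (Ideal.Quotient.mk _ (eval y x)) = 0
    rw [Ideal.Quotient.eq_zero_iff_mem.2 h1, map_zero]
  have hunitS : IsUnit (Ideal.Quotient.lift _ σQ hσQ (corner A N)) := by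
    have h0 := IsLocalization.Away.algebraMap_isUnit (S := Q)
      (Ideal.Quotient.mk (minorIdeal (r + 1) (memMat A N y)) (memMat A N y).toBlocks₁₁.det)
    have h1 : Ideal.Quotient.lift _ σQ hσQ (corner A N) = aQ (memMat A N y).toBlocks₁₁.det :=
      congrArg aQ hdet.symm
    rw [h1]
    exact h0
  let σS := IsLocalization.Away.lift (S := S) (P := Q) (corner A N) (g := Ideal.Quotient.lift _ σQ hσQ) hunitS
  have hσS : ∀ x, σS (π x) = σQ x := fun x => IsLocalization.Away.lift_eq _ _ _
  have hσA : ∀ a : A, σS (algebraMap A S a) = aQ a := fun a => by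
    rw [← π.commutes a, hσS]
    simp [σQ]
  have hPk : σS.comp (algebraMap Pk S) = (algebraMap k Q).comp ev.toRingHom := by
    refine MvPolynomial.ringHom_ext (fun c => ?_) fun l => ?_
    · change σS (φ (C c)) = algebraMap k Q (ev (C c))
      rw [← MvPolynomial.algebraMap_eq, φ.commutes, ev.commutes, Algebra.algebraMap_self, RingHom.id_apply,
        IsScalarTower.algebraMap_apply k A S, hσA]
      exact aQ.commutes c
    · change σS (φ (X l)) = algebraMap k Q (ev (X l))
      have e1 : φ (X l) = π (X l) := aeval_X _ l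
      have e2 : ev (X l) = v l := aeval_X _ l
      rw [e1, e2, hσS]
      change aQ (eval y (X l)) = _
      rw [eval_X]
      exact aQ.commutes _
  let σR : R →+* Q := IsLocalization.Away.lift (algebraMap Pk S p) (g := σS) (by
    rw [← RingHom.comp_apply, hPk]
    exact ((Ne.isUnit hv).map (algebraMap k Q) :))
  have hσR : ∀ x, σR (algebraMap S R x) = σS x := fun x => IsLocalization.Away.lift_eq _ _ _
  have hkillI : ∀ x ∈ I.map (algebraMap Pk R), σR x = 0 := by
    have : I.map (algebraMap Pk R) ≤ RingHom.ker σR := by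
      rw [Ideal.map_le_iff_le_comap]
      intro z hz
      rw [Ideal.mem_comap, RingHom.mem_ker, IsScalarTower.algebraMap_apply Pk S R, hσR,
        ← RingHom.comp_apply, hPk, RingHom.comp_apply, show ev.toRingHom z = 0 from hz, map_zero]
    exact fun x hx => this hx
  let f1 : F →+* Q := Ideal.Quotient.lift _ σR hkillI
  have hf2 : ∀ a, f2 (aQ a) = toF a := fun a => hf2' _
  have h12 : f1.comp f2.toRingHom = RingHom.id Q := by
    refine IsLocalization.ringHom_ext
      (Submonoid.powers (Ideal.Quotient.mk (minorIdeal (r + 1) (memMat A N y)) (memMat A N y).toBlocks₁₁.det)) ?_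
    refine Ideal.Quotient.ringHom_ext (RingHom.ext fun a => ?_)
    change f1 (f2 (aQ a)) = aQ a
    rw [hf2]
    change σR (algebraMap S R (algebraMap A S a)) = aQ a
    rw [hσR, hσA]
  have h21 : f2.toRingHom.comp f1 = RingHom.id F := by
    refine Ideal.Quotient.ringHom_ext ?_
    refine IsLocalization.ringHom_ext (Submonoid.powers (algebraMap Pk S p)) ?_
    refine IsLocalization.ringHom_ext (Submonoid.powers (corner A N)) ?_
    refine Ideal.Quotient.ringHom_ext (RingHom.ext fun x => ?_)
    change f2 (σR (algebraMap S R (π x))) = σF x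
    rw [hσR, hσS, hσF]
    exact hf2 _
  let e : Q ≃ₐ[k] F := AlgEquiv.ofRingEquiv (f := RingEquiv.ofRingHom f2.toRingHom f1 h21 h12)
    fun c => f2.commutes c
  haveI := hFsm
  refine ⟨Algebra.Smooth.of_equiv (A := F) (B := Q) e.symm, fun 𝔪 h𝔪 => ?_⟩
  haveI : IsJacobsonRing S := isJacobsonRing_of_finiteType (A := k)
  exact height_of_fibre (C := S) (R := R) p I hIht hht e.toRingEquiv 𝔪

end Groth.CohTwo.Degeneracy
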