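import Groth.Agent.CohTwo.Degeneracy.FullRankSheaf
import Groth.Agent.Purity.Normal
import Groth.Agent.HilbStab.TFPure
import Groth.Agent.S9408
import Groth.Agent.PicAux.RegularUFD

/-!
# Cokernels of maps degenerating in codimension two are torsion-free
-/

universe u

open CategoryTheory CategoryTheory.Limits AlgebraicGeometry Opposite TopologicalSpace
open scoped Matrix

namespace Groth.CohTwo.Degeneracy

open Groth.QCohMod (appₗ)

/-- If the maximal minors avoid the primes of height at most one, the image is saturated. -/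
theorem mem_range_of_smul_mem {A : Type u} [CommRing A] [IsDomain A] [IsNoetherianRing A] [IsIntegrallyClosed A]
    {e f : ℕ} (M : Matrix (Fin f) (Fin e) A)
    (hM : ∀ P : Ideal A, P.IsPrime → P.height ≤ 1 → ¬ minorIdeal e M ≤ P) {a : A} (ha : a ≠ 0)
    {b : Fin f → A} {x : Fin e → A} (h : a • b = M *ᵥ x) : ∃ y, M *ᵥ y = b := by
  classical
  have hmin : ∀ d ∈ minorIdeal e M, ∀ j, a ∣ d * x j := by
    intro d hd
    induction hd using Submodule.span_induction with
    | mem d hd =>
      obtain ⟨⟨s, t⟩, rfl⟩ := hd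
      intro j
      by_cases ht : Function.Bijective t
      · let τ := Equiv.ofBijective t ht
        have h1 : M.submatrix s t *ᵥ (x ∘ t) = a • (b ∘ s) := by
          funext i
          refine (Fintype.sum_equiv τ _ (fun j => M (s i) j * x j) fun j => rfl).trans ?_
          exact (congrFun h (s i)).symm
        have h2 := congrArg ((M.submatrix s t).adjugate *ᵥ ·) h1
        simp only [Matrix.mulVec_mulVec, Matrix.adjugate_mul, Matrix.smul_mulVec, Matrix.one_mulVec,
          Matrix.mulVec_smul] at h2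
        obtain ⟨i, rfl⟩ := ht.2 j
        exact ⟨_, congrFun h2 i⟩
      · rw [Finite.injective_iff_bijective.symm, Function.not_injective_iff] at ht
        obtain ⟨i, i', hii, hne⟩ := ht
        simp only []
        rw [Matrix.det_zero_of_column_eq hne (fun y => by simp [hii]), zero_mul]
        exact dvd_zero a
    | zero => exact fun j => by rw [zero_mul]; exact dvd_zero a
    | add d d' _ _ hd hd' => exact fun j => by rw [add_mul]; exact dvd_add (hd j) (hd' j)
    | smul c d _ hd => exact fun j => by rw [smul_eq_mul, mul_assoc]; exact dvd_mul_of_dvd_right (hd j) c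
  -- one element of the minor ideal outside all small primes containing `a`
  let S : Finset (Ideal A) :=
    (Ideal.span {a}).finite_minimalPrimes_of_isNoetherianRing.toFinset.filter fun P => P.height ≤ 1
  obtain ⟨d, hd, hdS⟩ : ∃ d ∈ minorIdeal e M, ∀ P ∈ S, d ∉ P := by
    by_contra hcon
    push Not at hcon
    have hsub : (minorIdeal e M : Set A) ⊆ ⋃ P ∈ (S : Set (Ideal A)), (P : Set A) := fun d hd => by
      obtain ⟨P, hP, hdP⟩ := hcon d hd
      exact Set.mem_biUnion hP hdP
    have hprime : ∀ P ∈ S, P.IsPrime := fun P hP =>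
      have h : P ∈ (Ideal.span {a}).minimalPrimes := by
        have h := (Finset.mem_filter.1 hP).1
        rwa [Set.Finite.mem_toFinset] at h
      h.1.1
    obtain ⟨P, hP, hle⟩ := (Ideal.subset_union_prime (s := S) (f := fun P => P) ⊥ ⊥ fun P hP _ _ => hprime P hP).1 hsub
    exact hM P (hprime P hP) (Finset.mem_filter.1 hP).2 hle
  have hx : ∀ j, a ∣ x j := fun j => by
    obtain ⟨q, hq⟩ := hmin d hd j
    refine Groth.Purity.dvd_of_normal ha hq fun P hP hPh haP => hdS P (Finset.mem_filter.2 ⟨?_, hPh⟩)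
    rw [Set.Finite.mem_toFinset]
    obtain ⟨Q, hQ, hQP⟩ := Ideal.exists_minimalPrimes_le (I := Ideal.span {a}) (J := P)
      ((Ideal.span_singleton_le_iff_mem _).2 haP)
    by_contra hne
    have hlt : Q < P := lt_of_le_of_ne hQP fun h => hne (h ▸ hQ)
    haveI : Q.IsPrime := hQ.1.1
    have hQ0 : Q ≠ ⊥ := fun h0 => ha (by
      have := hQ.1.2 (Ideal.mem_span_singleton_self a)
      rwa [h0] at this)
    have h1 : 1 ≤ Q.height := Order.one_le_iff_pos.2 (pos_iff_ne_zero.2 fun h0 => hQ0 (Ideal.height_eq_zero_iff_eq_bot.1 h0))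
    exact absurd ((Ideal.height_strict_mono_of_isPrime_of_isPrime hlt).trans_le hPh) (not_lt.2 h1)
  choose y hy using hx
  refine ⟨y, funext fun i => mul_left_cancel₀ ha ?_⟩
  have hxy : x = a • y := funext hy
  rw [hxy, Matrix.mulVec_smul] at h
  exact (congrFun h i).symm

/-- A smooth affine domain over a field is normal. -/
theorem isIntegrallyClosed_of_smooth (k A : Type u) [Field k] [CommRing A] [IsDomain A] [Algebra k A]
    [Algebra.Smooth k A] : IsIntegrallyClosed A := by
  haveI := Groth.Agent.S9408.isRegularRing_of_smooth k A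
  refine IsIntegrallyClosed.of_localization_maximal fun P _ hP => ?_
  haveI := hP.isPrime
  haveI := IsRegularRing.isRegularLocalRing_localization P
  haveI := Groth.PicAux.ufd_of_isRegularLocalRing (Localization.AtPrime P)
  infer_instance

variable {X : Scheme.{u}}

/-- Torsion-free sections on an affine cover give a torsion-free module. -/
theorem isTorsionFree_of_affine_cover [IsIntegral X] {G : X.Modules} [G.IsQuasicoherent]
    (h : ∀ x : X, ∃ U : X.affineOpens, x ∈ U.1 ∧
      ∀ (a : Γ(X, U.1)) (m : Γ(G, U.1)), a ≠ 0 → a • m = 0 → m = 0) : _root_.TorSh.IsTorsionFree G := by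
  intro x
  obtain ⟨U, hx, hU⟩ := h x
  haveI : Nonempty U.1 := ⟨⟨x, hx⟩⟩
  refine .of_smul_eq_zero (R := X.presheaf.stalk x) fun r t hrt => ?_
  by_cases hr : r = 0
  · exact Or.inl hr
  refine Or.inr ?_
  obtain ⟨a, m, ha, hm⟩ := Groth.QCohMod.exists_smul_germ_eq G U.2 x hx t
  obtain ⟨r₁, c, hc, hcr⟩ := Groth.RefRank.exists_mul_germ_eq U.2 hx r
  have hua : IsUnit (X.presheaf.germ U.1 x hx a) := (Scheme.mem_basicOpen X a x hx).mp ha
  have hr₁ : r₁ ≠ 0 := fun h0 => by
    rw [h0, map_zero] at hcr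
    exact hr (((Scheme.mem_basicOpen X c x hx).mp hc).mul_right_eq_zero.1 hcr)
  have h0 : Groth.QCohMod.germ G x hx (r₁ • m) = 0 := by
    rw [Groth.QCohMod.germ_smul, ← hcr, ← hm, smul_smul,
      show X.presheaf.germ U.1 x hx c * r * X.presheaf.germ U.1 x hx a =
        (X.presheaf.germ U.1 x hx c * X.presheaf.germ U.1 x hx a) * r from mul_right_comm _ _ _,
      mul_smul, hrt, smul_zero]
  obtain ⟨d, hd, hd0⟩ := Groth.QCohMod.exists_smul_eq_zero_of_germ_eq_zero G U.2 x hx _ h0
  rw [smul_smul] at hd0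
  have hd' : d ≠ 0 := fun h0 => by
    rw [h0, Scheme.basicOpen_zero] at hd
    exact hd
  have hm0 := hU _ m (mul_ne_zero hd' hr₁) hd0
  rw [hm0, map_zero] at hm
  exact hua.smul_left_cancel.1 (hm.trans (smul_zero _).symm)

/-- The cokernel of a map of bundles is torsion-free on a chart where the maximal minors avoid small primes. -/
theorem torsionFree_sections [IsIntegral X] [IsLocallyNoetherian X] {E F : X.Modules} (hE : Coh.IsCoh E)
    (hF : Coh.IsCoh F) (φ : E ⟶ F) (U : X.affineOpens) [Nonempty U.1] [IsIntegrallyClosed Γ(X, U.1)] {e f : ℕ}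
    (a : Module.Basis (Fin e) Γ(X, U.1) Γ(E, U.1)) (b : Module.Basis (Fin f) Γ(X, U.1) Γ(F, U.1))
    (hM : ∀ P : Ideal Γ(X, U.1), P.IsPrime → P.height ≤ 1 →
      ¬ minorIdeal e (LinearMap.toMatrix a b (appₗ φ U.1)) ≤ P)
    (s : Γ(X, U.1)) (m : Γ(cokernel φ, U.1)) (hs : s ≠ 0) (hsm : s • m = 0) : m = 0 := by
  have := hE.1
  have := hF.1
  have := (Groth.QCohMod.isCoh_cokernel φ hF).1
  haveI : IsNoetherianRing Γ(X, U.1) := IsLocallyNoetherian.component_noetherian U
  obtain ⟨y, rfl⟩ := Groth.QCohMod.app_surjective_of_epi (cokernel.π φ) U.2 m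
  rw [← Scheme.Modules.Hom.app_smul] at hsm
  obtain ⟨x, hx⟩ := Groth.QCohMod.exists_app_eq_of_exact
    (S := ShortComplex.mk φ (cokernel.π φ) (cokernel.condition φ))
    (ShortComplex.exact_of_g_is_cokernel _ (cokernelIsCokernel φ)) U.2 _ hsm
  have h1 : s • ⇑(b.repr y) = LinearMap.toMatrix a b (appₗ φ U.1) *ᵥ ⇑(a.repr x) := by
    rw [LinearMap.toMatrix_mulVec_repr]
    change _ = ⇑(b.repr (φ.app U.1 x))
    rw [show φ.app U.1 x = s • y from hx, map_smul]
    rfl
  obtain ⟨z, hz⟩ := mem_range_of_smul_mem _ hM hs h1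
  have h2 : y = φ.app U.1 (a.equivFun.symm z) := by
    apply b.repr.injective
    apply DFunLike.coe_injective
    rw [← hz]
    conv_lhs => rw [← a.equivFun.apply_symm_apply z]
    exact LinearMap.toMatrix_mulVec_repr a b (appₗ φ U.1) (a.equivFun.symm z)
  rw [h2]
  exact congr($(congrArg (fun ψ : E ⟶ cokernel φ => ψ.app U.1) (cokernel.condition φ)) (a.equivFun.symm z))

/-- On a surface chart, a general map of bundles of ranks `e`, `e + 1` degenerates at closed points only. -/
theorem chart_codimTwo (k : Type u) [Field k] [X.Over (Spec (CommRingCat.of k))] [CharZero k] [IsIntegral X]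
    [Smooth (X ↘ Spec (CommRingCat.of k))] [LocallyOfFiniteType (X ↘ Spec (CommRingCat.of k))]
    (hdim : topologicalKrullDim X = (2 : ℕ)) {E F : X.Modules} {e m : ℕ}
    (c : (E ⟶ F) ≃ₗ[k] (Fin m → k)) (U : X.affineOpens) [Nonempty U.1]
    (a : Module.Basis (Fin e) Γ(X, U.1) Γ(E, U.1)) (b : Module.Basis (Fin (e + 1)) Γ(X, U.1) Γ(F, U.1))
    (hspan : Submodule.span Γ(X, U.1) (Set.range fun φ : E ⟶ F => appₗ φ U.1) = ⊤) :
    ∃ p : MvPolynomial (Fin m) k, p ≠ 0 ∧ ∀ φ : E ⟶ F, MvPolynomial.eval (c φ) p ≠ 0 →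
      ∀ P : Ideal Γ(X, U.1), P.IsPrime → P.height ≤ 1 →
        ¬ minorIdeal e (LinearMap.toMatrix a b (appₗ φ U.1)) ≤ P := by
  obtain ⟨hsm, hn, Φ, hΦ, hM⟩ := exists_system k 2 hdim c U a b hspan
  let _ : Algebra k Γ(X, U.1) := (scalarRes k X U.1).toAlgebra
  obtain ⟨p, hp, h⟩ := exists_good_strata k Γ(X, U.1) 2 hn Φ hΦ
  refine ⟨p, hp, fun φ hφ P hP hPh hle => ?_⟩
  rw [hM φ] at hle
  haveI : Algebra.FiniteType k Γ(X, U.1) := inferInstance
  have hmax : P.IsMaximal := by
    by_contra hnmax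
    have key : ∀ r ≤ e, ¬ minorIdeal r (member k Γ(X, U.1) Φ (c φ)) ≤ P := by
      intro r
      induction r with
      | zero => exact fun _ h0 => hP.ne_top (top_le_iff.1 (minorIdeal_zero (member k Γ(X, U.1) Φ (c φ)) ▸ h0))
      | succ r ih =>
        intro hr hle'
        obtain ⟨h1, h2⟩ := h _ hφ P hP r (by omega) hle' (ih (by omega))
        obtain ⟨d, hd⟩ : ∃ d, e - r = d + 1 := ⟨e - r - 1, by omega⟩
        rw [hd, show e + 1 - r = d + 2 by omega] at h1 h2
        have hd0 : d = 0 := by nlinarith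
        exact hnmax (h2 (by rw [hd0]))
    exact key e le_rfl hle
  obtain ⟨n', -, hn', hht⟩ := Groth.Variety2.Dim.exists_dim k Γ(X, U.1)
  have e2 : n' = 2 := by rw [hn] at hn'; exact_mod_cast hn'.symm
  rw [hht P hmax, e2] at hPh
  exact absurd (show (2 : ℕ) ≤ 1 by exact_mod_cast hPh) (by norm_num)

end Groth.CohTwo.Degeneracy
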