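import Groth.Agent.CohTwo.Degeneracy.FullRank
import Groth.Agent.Variety2.BertiniRing

/-!
# Rank drop of a general member through the kernel incidence

If `Φ` is a spanning system of `f × e` matrices and `Ψ` any system of `f × a` matrices, then for general
coefficients the primes at which `[Φ v | Ψ w]` drops rank while `Ψ w` does not have codimension at least
`f - (e + a) + 1`. The incidence of kernel vectors is a localised polynomial algebra.
-/

universe u

open Matrix MvPolynomial

namespace Groth.CohTwo.Degeneracy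

/-- A point of the spectrum: dimension of the quotient plus height is at most the dimension. -/
theorem ringKrullDim_quotient_add_height_le {R : Type u} [CommRing R] (P : Ideal R) [hP : P.IsPrime] :
    ringKrullDim (R ⧸ P) + (P.height : WithBot ℕ∞) ≤ ringKrullDim R := by
  let p : PrimeSpectrum R := ⟨P, hP⟩
  haveI : Nonempty (PrimeSpectrum R) := ⟨p⟩
  have h1 : ringKrullDim (R ⧸ P) = (Order.coheight p : ℕ∞) := by
    rw [ringKrullDim_quotient, Order.coheight_eq_krullDim_Ici]
    exact Order.krullDim_eq_of_orderIso (OrderIso.setCongr _ _ (Set.ext fun q => Iff.rfl))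
  change ringKrullDim (R ⧸ P) + (p.asIdeal.height : WithBot ℕ∞) ≤ _
  rw [h1, PrimeSpectrum.height_eq_orderHeight, ringKrullDim,
    Order.krullDim_eq_iSup_height_add_coheight_of_nonempty, ← WithBot.coe_add, WithBot.coe_le_coe, add_comm]
  exact le_iSup (fun q : PrimeSpectrum R => Order.height q + Order.coheight q) p

/-- General fibres of a smooth affine variety over affine space are small. -/
theorem exists_fibre_bound (k : Type u) [Field k] [CharZero k] (S : Type u) [CommRing S] [IsDomain S] [Algebra k S]
    [Algebra.Smooth k S] {σ : Type} [Fintype σ] (g : σ → S) (D : ℕ) (hD : ringKrullDim S = D) :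
    ∃ p : MvPolynomial σ k, p ≠ 0 ∧ ∀ (T : Type u) [CommRing T] [IsDomain T] [Algebra k T] (ψ : S →ₐ[k] T),
      Function.Surjective ψ → ∀ v : σ → k, (∀ l, ψ (g l) = algebraMap k T (v l)) → eval v p ≠ 0 →
      ringKrullDim T + (Fintype.card σ : ℕ) ≤ (D : ℕ) := by
  classical
  let e := Fintype.equivFin σ
  let m := Fintype.card σ
  let Pk := MvPolynomial (Fin m) k
  let φ : Pk →ₐ[k] S := aeval fun l => g (e.symm l)
  letI := φ.toRingHom.toAlgebra
  haveI : IsScalarTower k Pk S := IsScalarTower.of_algebraMap_eq' φ.comp_algebraMap.symm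
  obtain ⟨p, hp, hsm⟩ := Groth.Variety2.Bertini.exists_smooth_away k Pk S
  refine ⟨rename e.symm p, fun h => hp (rename_injective _ e.symm.injective (h.trans (map_zero _).symm)), ?_⟩
  intro T _ _ _ ψ hψ v hv hne
  rw [eval_rename] at hne
  let R := Localization.Away (algebraMap Pk S p)
  haveI : Algebra.Smooth Pk R := hsm
  have hψφ : ∀ x : Pk, ψ (algebraMap Pk S x) = algebraMap k T (eval (v ∘ e.symm) x) := by
    intro x
    have h : ψ.comp φ = (Algebra.ofId k T).comp (aeval (v ∘ e.symm)) := by
      refine MvPolynomial.algHom_ext fun l => ?_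
      simp only [AlgHom.comp_apply, φ, aeval_X, Function.comp_apply, hv]
      rfl
    exact DFunLike.congr_fun h x
  have hu : IsUnit (ψ (algebraMap Pk S p)) := by
    rw [hψφ]
    exact (Ne.isUnit hne).map _
  have hp0 : algebraMap Pk S p ≠ 0 := fun h => hu.ne_zero (by rw [h, map_zero])
  haveI : Algebra.FiniteType k S := inferInstance
  haveI : IsDomain R :=
    IsLocalization.isDomain_of_le_nonZeroDivisors _ (powers_le_nonZeroDivisors_of_noZeroDivisors hp0)
  let ψR : R →+* T := IsLocalization.Away.lift (algebraMap Pk S p) (g := ψ.toRingHom) hu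
  have hψR : ∀ x, ψR (algebraMap S R x) = ψ x := fun x => IsLocalization.Away.lift_eq _ _ _
  have hsurj : Function.Surjective ψR := fun t => by
    obtain ⟨x, hx⟩ := hψ t
    exact ⟨algebraMap S R x, (hψR x).trans hx⟩
  let Q := RingHom.ker ψR
  haveI : Q.IsPrime := RingHom.ker_isPrime _
  let ev : Pk →ₐ[k] k := aeval (v ∘ e.symm)
  let I : Ideal Pk := RingHom.ker ev.toRingHom
  haveI hI : I.IsMaximal := RingHom.ker_isMaximal_of_surjective _ fun c => ⟨C c, ev.commutes c⟩
  have hIQ : I ≤ Q.comap (algebraMap Pk R) := fun x hx => by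
    rw [Ideal.mem_comap, RingHom.mem_ker, IsScalarTower.algebraMap_apply Pk S R, hψR, hψφ,
      show eval (v ∘ e.symm) x = 0 from hx, map_zero]
  haveI : Q.LiesOver I := ⟨hI.eq_of_le (Ideal.comap_ne_top _ (Ideal.IsPrime.ne_top ‹_›)) hIQ⟩
  haveI : Module.Flat Pk R := inferInstance
  haveI : Algebra.FiniteType k R :=
    Algebra.FiniteType.trans (R := k) (S := S) inferInstance
      (IsLocalization.finiteType_of_monoid_fg (Submonoid.powers (algebraMap Pk S p)) _)
  haveI : IsNoetherianRing R := Algebra.FiniteType.isNoetherianRing k R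
  have hh := Ideal.height_eq_height_add_of_liesOver_of_hasGoingDown I Q
  have hIht : I.height = m := Groth.Variety2.Dim.height_isMaximal_mvPolynomial k m I hI
  have hle : ((m : ℕ) : ℕ∞) ≤ Q.height := by rw [hh, hIht]; exact le_self_add
  have h := ringKrullDim_quotient_add_height_le Q
  rw [ringKrullDim_away k S D hD _ hp0,
    ringKrullDim_eq_of_ringEquiv (RingHom.quotientKerEquivOfSurjective hsurj)] at h
  exact (add_le_add_right (WithBot.coe_le_coe.2 hle) _).trans h

/-- A subdomain of a domain of finite type has at most its dimension. -/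
theorem ringKrullDim_le_of_injective (k : Type u) [Field k] {B T : Type u} [CommRing B] [IsDomain B] [Algebra k B]
    [Algebra.FiniteType k B] [CommRing T] [IsDomain T] [Algebra k T] [Algebra.FiniteType k T] (j : B →ₐ[k] T)
    (hj : Function.Injective j) : ringKrullDim B ≤ ringKrullDim T := by
  obtain ⟨d, hd, hd', -⟩ := Groth.Variety2.Dim.exists_dim k B
  obtain ⟨d₁, hd₁, hd₁', -⟩ := Groth.Variety2.Dim.exists_dim k T
  let jF : FractionRing B →ₐ[k] FractionRing T := IsFractionRing.liftAlgHom
    (g := (IsScalarTower.toAlgHom k T (FractionRing T)).comp j) ((IsFractionRing.injective T _).comp hj)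
  have h := trdeg_le_of_injective jF jF.toRingHom.injective
  rw [hd, hd₁] at h
  rw [hd', hd₁']
  exact_mod_cast h

variable (k : Type u) [Field k] (A : Type u) [CommRing A] [Algebra k A] {m₁ m₂ e a f : ℕ}

set_option maxHeartbeats 1000000 in
/-- Where `[Φ v | Ψ w]` drops rank but `Ψ w` does not, the codimension is at least `f - (e + a) + 1`. -/
theorem exists_incidence_bound [CharZero k] [IsDomain A] [Algebra.Smooth k A] (n : ℕ) (hn : ringKrullDim A = n)
    (Φ : Fin m₁ → Matrix (Fin f) (Fin e) A) (hΦ : Submodule.span A (Set.range Φ) = ⊤)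
    (Ψ : Fin m₂ → Matrix (Fin f) (Fin a) A) (hle : e + a ≤ f) :
    ∃ p : MvPolynomial (Fin m₁ ⊕ Fin m₂) k, p ≠ 0 ∧ ∀ v w, eval (Sum.elim v w) p ≠ 0 →
      ∀ P : Ideal A, P.IsPrime →
        minorIdeal (e + a) (Matrix.fromCols (member k A Φ v) (member k A Ψ w)) ≤ P →
        ¬ minorIdeal a (member k A Ψ w) ≤ P →
        ringKrullDim (A ⧸ P) + ((f - (e + a) + 1 : ℕ) : WithBot ℕ∞) ≤ (n : ℕ) := by
  classical
  -- coordinates on the chart where the kernel vector has j-th coordinate one
  let Var := fun (τ : Fin f → Fin m₁) (j : Fin e) =>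
    ({l : Fin m₁ // l ∉ Set.range τ} ⊕ Fin m₂) ⊕ ({i : Fin e // i ≠ j} ⊕ Fin a)
  let u := fun (τ : Fin f → Fin m₁) (j : Fin e) (i : Fin e) =>
    if h : i = j then (1 : MvPolynomial (Var τ j) A) else X (Sum.inr (Sum.inl ⟨i, h⟩))
  let G := fun (τ : Fin f → Fin m₁) (j : Fin e) => Matrix.of fun (r s : Fin f) =>
    ((Φ (τ s)).map C *ᵥ u τ j) r
  have key : ∀ c : {c : (Fin f → Fin m₁) × Fin e // (G c.1 c.2).det ≠ 0},
      ∃ p : MvPolynomial (Fin m₁ ⊕ Fin m₂) k, p ≠ 0 ∧ ∀ v w, eval (Sum.elim v w) p ≠ 0 →
        ∀ P : Ideal A, P.IsPrime → ∀ (K : Type u) [Field K] [Algebra k K] (ι : A →ₐ[k] K),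
          RingHom.ker ι.toRingHom = P → ∀ (x : Fin e → K) (y : Fin a → K), x c.1.2 = 1 →
          (member k A Φ v).map ι *ᵥ x + (member k A Ψ w).map ι *ᵥ y = 0 →
          (Matrix.of fun (r s : Fin f) => ((Φ (c.1.1 s)).map ι *ᵥ x) r).det ≠ 0 →
          ringKrullDim (A ⧸ P) + ((f - (e + a) + 1 : ℕ) : WithBot ℕ∞) ≤ (n : ℕ) := by
    rintro ⟨⟨τ, j⟩, hδ⟩
    simp only at hδ ⊢
    have hτ : Function.Injective τ := by
      intro s t hst
      by_contra hne
      exact hδ (Matrix.det_zero_of_column_eq hne fun r => by simp [G, hst])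
    let Pol := MvPolynomial (Var τ j) A
    let δ : Pol := (G τ j).det
    let S := Localization.Away δ
    haveI : IsDomain S :=
      IsLocalization.isDomain_of_le_nonZeroDivisors _ (powers_le_nonZeroDivisors_of_noZeroDivisors hδ)
    haveI : Algebra.Smooth Pol S := Algebra.Smooth.of_isLocalization_Away δ
    haveI : Algebra.Smooth A Pol := ⟨inferInstance, inferInstance⟩
    haveI : Algebra.Smooth A S := Algebra.Smooth.comp A Pol S
    haveI : Algebra.Smooth k S := Algebra.Smooth.comp k A S
    haveI : Algebra.FiniteType k A := inferInstance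
    haveI : IsNoetherianRing A := Algebra.FiniteType.isNoetherianRing k A
    haveI : Algebra.FiniteType k Pol := Algebra.FiniteType.trans (R := k) (S := A) inferInstance inferInstance
    have hcard : Fintype.card (Var τ j) + f + 1 = m₁ + m₂ + e + a := by
      simp only [Var, Fintype.card_sum, Fintype.card_fin, ne_eq, Fintype.card_subtype_compl,
        Fintype.card_unique]
      have h1 : Fintype.card {l : Fin m₁ // l ∈ Set.range τ} = f :=
        (Fintype.card_congr (Equiv.ofInjective τ hτ).symm).trans (Fintype.card_fin f)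
      have h2 : f ≤ m₁ := by simpa using Fintype.card_le_of_injective τ hτ
      have h3 : 1 ≤ e := j.pos
      omega
    have hS : ringKrullDim S = ((n + Fintype.card (Var τ j) : ℕ) : WithBot ℕ∞) := by
      refine ringKrullDim_away k Pol _ ?_ δ hδ
      rw [MvPolynomial.ringKrullDim_of_isNoetherianRing, hn, Nat.card_eq_fintype_card]
      push_cast; ring
    let ci : Pol →+* S := algebraMap Pol S
    let vO : Fin m₁ → Pol := fun l => if h : l ∈ Set.range τ then 0 else X (Sum.inl (Sum.inl ⟨l, h⟩))
    let rhs : Fin f → Pol := fun r => -((∑ l, vO l * ((Φ l).map C *ᵥ u τ j) r) +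
      ∑ l, X (Sum.inl (Sum.inr l)) * ((Ψ l).map C *ᵥ fun i => X (Sum.inr (Sum.inr i))) r)
    let vτ : Fin f → S := ((G τ j).map ci)⁻¹ *ᵥ fun r => ci (rhs r)
    let g : Fin m₁ ⊕ Fin m₂ → S := Sum.elim
      (fun l => if h : l ∈ Set.range τ then vτ h.choose else ci (vO l))
      fun l => ci (X (Sum.inl (Sum.inr l)))
    obtain ⟨p, hp, hbound⟩ := exists_fibre_bound k S g _ hS
    refine ⟨p, hp, fun v w hvw P hP K _ _ ι hι x y hxj hker hdet => ?_⟩
    let ev : Pol →ₐ[k] K :=
      { toRingHom := eval₂Hom ι.toRingHom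
          (Sum.elim (Sum.elim (fun l => algebraMap k K (v l.1)) fun l => algebraMap k K (w l))
            (Sum.elim (fun i => x i.1) y))
        commutes' := fun c => by
          rw [IsScalarTower.algebraMap_apply k A Pol, MvPolynomial.algebraMap_eq]
          exact (eval₂Hom_C _ _ _).trans (ι.commutes c) }
    have evC : ∀ z, ev (C z) = ι z := fun z => eval₂Hom_C _ _ z
    have evu : ∀ i, ev (u τ j i) = x i := by
      intro i
      simp only [u]
      split
      · next h => rw [map_one, h, hxj]
      · exact eval₂Hom_X' _ _ _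
    have evmul : ∀ (M : Matrix (Fin f) (Fin e) A) r, ev ((M.map C *ᵥ u τ j) r) = (M.map ι *ᵥ x) r := by
      intro M r
      simp only [Matrix.mulVec, dotProduct, map_sum, map_mul, Matrix.map_apply, evC, evu]
    have hG : (G τ j).map ev = Matrix.of fun (r s : Fin f) => ((Φ (τ s)).map ι *ᵥ x) r := by
      ext r s
      exact evmul _ _
    have hu : IsUnit (ev δ) := by
      rw [show ev δ = ((G τ j).map ev).det from AlgHom.map_det ev (G τ j), hG]
      exact hdet.isUnit
    let χ : S →ₐ[k] K :=
      { toRingHom := IsLocalization.Away.lift δ (g := ev.toRingHom) hu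
        commutes' := fun c => by
          rw [IsScalarTower.algebraMap_apply k Pol S]
          exact (IsLocalization.Away.lift_eq _ _ _).trans (ev.commutes c) }
    have hχ : ∀ z, χ (ci z) = ev z := fun z => IsLocalization.Away.lift_eq δ hu z
    -- the solution of the incidence equation is the given point
    have hsol : ∀ s, χ (vτ s) = algebraMap k K (v (τ s)) := by
      intro s
      have hdetS : IsUnit ((G τ j).map ci).det := by
        rw [show ((G τ j).map ci).det = ci δ from (RingHom.map_det ci (G τ j)).symm]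
        exact IsLocalization.Away.algebraMap_isUnit δ
      have h1 : (G τ j).map ci *ᵥ vτ = fun r => ci (rhs r) := by
        rw [Matrix.mulVec_mulVec, Matrix.mul_nonsing_inv _ hdetS, Matrix.one_mulVec]
      have h2 : (G τ j).map ev *ᵥ (fun s => χ (vτ s)) = fun r => ev (rhs r) := by
        funext r
        have h := congrArg χ (congrFun h1 r)
        rw [hχ] at h
        rw [← h]
        simp [Matrix.mulVec, dotProduct, map_sum, hχ]
      have h3 : (G τ j).map ev *ᵥ (fun s => algebraMap k K (v (τ s))) = fun r => ev (rhs r) := by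
        funext r
        have hk := congrFun hker r
        rw [Pi.add_apply, Pi.zero_apply] at hk
        have e1 : ((member k A Φ v).map ι *ᵥ x) r = ∑ l, algebraMap k K (v l) * ((Φ l).map ι *ᵥ x) r := by
          simp only [Matrix.mulVec, dotProduct, Matrix.map_apply, member_apply, map_sum, map_mul,
            AlgHom.commutes, Finset.sum_mul, Finset.mul_sum]
          rw [Finset.sum_comm]
          exact Finset.sum_congr rfl fun l _ => Finset.sum_congr rfl fun i _ => mul_assoc _ _ _
        have e2 : ((member k A Ψ w).map ι *ᵥ y) r = ∑ l, algebraMap k K (w l) * ((Ψ l).map ι *ᵥ y) r := by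
          simp only [Matrix.mulVec, dotProduct, Matrix.map_apply, member_apply, map_sum, map_mul,
            AlgHom.commutes, Finset.sum_mul, Finset.mul_sum]
          rw [Finset.sum_comm]
          exact Finset.sum_congr rfl fun l _ => Finset.sum_congr rfl fun i _ => mul_assoc _ _ _
        have e3 : ∀ l, ev (((Ψ l).map C *ᵥ fun i => X (Sum.inr (Sum.inr i))) r) = ((Ψ l).map ι *ᵥ y) r := by
          intro l
          simp only [Matrix.mulVec, dotProduct, map_sum, map_mul, Matrix.map_apply, evC]
          exact Finset.sum_congr rfl fun i _ => congrArg _ (eval₂Hom_X' _ _ _)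
        have e4 : ∀ l : Fin m₂, ev (X (Sum.inl (Sum.inr l))) = algebraMap k K (w l) :=
          fun l => eval₂Hom_X' _ _ _
        have e5 : ∀ l, ev (vO l) = if l ∈ Set.range τ then 0 else algebraMap k K (v l) := by
          intro l
          simp only [vO]
          split
          · exact map_zero _
          · exact eval₂Hom_X' _ _ _
        have e6 : ∑ l, algebraMap k K (v l) * ((Φ l).map ι *ᵥ x) r =
            ∑ s, algebraMap k K (v (τ s)) * ((Φ (τ s)).map ι *ᵥ x) r +
            ∑ l, (if l ∈ Set.range τ then 0 else algebraMap k K (v l)) * ((Φ l).map ι *ᵥ x) r := by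
          rw [← Finset.sum_image (g := τ) (f := fun l => algebraMap k K (v l) * ((Φ l).map ι *ᵥ x) r)
            fun s _ t _ h => hτ h]
          conv_rhs => arg 2; rw [← Finset.sum_filter_not_add_sum_filter _ (fun l => l ∈ Set.range τ)]
          rw [Finset.sum_eq_zero (s := Finset.univ.filter fun l => l ∈ Set.range τ)
            (fun l hl => by rw [if_pos (Finset.mem_filter.1 hl).2, zero_mul]), add_zero,
            ← Finset.sum_filter_add_sum_filter_not Finset.univ (fun l => l ∈ Set.range τ)]
          refine congrArg₂ (· + ·) ?_ (Finset.sum_congr rfl fun l hl => by rw [if_neg (Finset.mem_filter.1 hl).2])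
          exact Finset.sum_congr (by ext; simp) fun _ _ => rfl
        rw [e1, e2, e6] at hk
        simp only [rhs, map_neg, map_add, map_sum, map_mul, evmul, e3, e4, e5]
        rw [hG]
        simp only [Matrix.mulVec, dotProduct, Matrix.of_apply]
        refine eq_neg_of_add_eq_zero_left (Eq.trans ?_ hk)
        simp only [Matrix.mulVec, dotProduct, Matrix.map_apply, mul_comm (algebraMap k K (v (τ _))), add_assoc]
      have hunit : IsUnit ((G τ j).map ev).det := by rw [hG]; exact hdet.isUnit
      exact congrFun (Matrix.mulVec_injective_of_isUnit ((Matrix.isUnit_iff_isUnit_det _).2 hunit)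
        (h2.trans h3.symm)) s
    have hg : ∀ l, χ (g l) = algebraMap k K (Sum.elim v w l) := by
      rintro (l | l)
      · simp only [g, Sum.elim_inl]
        split
        · next h => rw [hsol, h.choose_spec]
        · next h =>
          rw [hχ]
          simp only [vO, dif_neg h]
          exact eval₂Hom_X' _ _ _
      · exact (hχ _).trans (eval₂Hom_X' _ _ _)
    haveI := hP
    let T := χ.range
    have hT := hbound T χ.rangeRestrict χ.rangeRestrict_surjective (Sum.elim v w)
      (fun l => Subtype.ext (hg l)) hvw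
    haveI : Algebra.FiniteType k T :=
      Algebra.FiniteType.of_surjective χ.rangeRestrict χ.rangeRestrict_surjective
    haveI : Algebra.FiniteType k (A ⧸ P) :=
      Algebra.FiniteType.of_surjective (Ideal.Quotient.mkₐ k P) Ideal.Quotient.mk_surjective
    let jA : A ⧸ P →ₐ[k] T := Ideal.Quotient.liftₐ P
      (χ.rangeRestrict.comp (IsScalarTower.toAlgHom k A S)) fun z hz => Subtype.ext (by
        change χ (algebraMap A S z) = 0
        rw [IsScalarTower.algebraMap_apply A Pol S, hχ, MvPolynomial.algebraMap_eq, evC]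
        exact hι.ge hz)
    have hjA : Function.Injective jA := (injective_iff_map_eq_zero _).2 fun z hz => by
      obtain ⟨z, rfl⟩ := Ideal.Quotient.mk_surjective z
      have h := congrArg Subtype.val hz
      change χ (algebraMap A S z) = 0 at h
      rw [IsScalarTower.algebraMap_apply A Pol S, hχ, MvPolynomial.algebraMap_eq, evC] at h
      exact Ideal.Quotient.eq_zero_iff_mem.2 (hι.le h)
    have hB := ringKrullDim_le_of_injective k jA hjA
    obtain ⟨d, -, hd, -⟩ := Groth.Variety2.Dim.exists_dim k (A ⧸ P)
    obtain ⟨d₁, -, hd₁, -⟩ := Groth.Variety2.Dim.exists_dim k T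
    rw [hd, hd₁] at hB
    rw [hd₁, Fintype.card_sum, Fintype.card_fin, Fintype.card_fin] at hT
    rw [hd]
    norm_cast at hB hT ⊢
    omega
  choose p hp hgood using key
  refine ⟨∏ c, p c, Finset.prod_ne_zero_iff.2 fun c _ => hp c, fun v w hvw P hP hM hΨ => ?_⟩
  rw [map_prod, Finset.prod_ne_zero_iff] at hvw
  haveI := hP
  let K := P.ResidueField
  let ι : A →ₐ[k] K := IsScalarTower.toAlgHom k A K
  have hι : RingHom.ker ι.toRingHom = P := Ideal.ker_algebraMap_residueField P
  let M := (Matrix.fromCols (member k A Φ v) (member k A Ψ w)).map ι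
  have hM0 : minorIdeal (e + a) M = ⊥ := by
    change minorIdeal (e + a) ((Matrix.fromCols (member k A Φ v) (member k A Ψ w)).map ι.toRingHom) = ⊥
    rw [← map_minorIdeal, Ideal.map_eq_bot_iff_le_ker, hι]
    exact hM
  -- a kernel vector at the point
  obtain ⟨z, hz, hz0⟩ : ∃ z : Fin e ⊕ Fin a → K, M *ᵥ z = 0 ∧ z ≠ 0 := by
    by_contra hcon
    push Not at hcon
    have hinj : Function.Injective M.mulVec := (injective_iff_map_eq_zero M.mulVecLin).2 hcon
    have hspan : Submodule.span K (Set.range M.transpose.col) = ⊤ := by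
      rw [← Matrix.range_mulVecLin]
      refine Submodule.eq_top_of_finrank_eq ?_
      change M.transpose.rank = _
      rw [Matrix.rank_transpose]
      exact LinearMap.finrank_range_of_inj (f := M.mulVecLin) hinj
    obtain ⟨τ, hτ⟩ := exists_submatrix_det_notMem M.transpose hspan ⊥
    refine hτ ?_
    have h := det_mem_minorIdeal (r := e + a) M (τ ∘ finSumFinEquiv.symm) finSumFinEquiv.symm
    rw [hM0, Ideal.mem_bot,
      show M.submatrix (τ ∘ finSumFinEquiv.symm) finSumFinEquiv.symm =
        (M.submatrix τ id).submatrix finSumFinEquiv.symm finSumFinEquiv.symm from rfl,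
      Matrix.det_submatrix_equiv_self] at h
    rw [Ideal.mem_bot, ← h, ← Matrix.det_transpose, Matrix.transpose_submatrix, Matrix.transpose_transpose]
  obtain ⟨x, y, rfl⟩ : ∃ x y, z = Sum.elim x y := ⟨z ∘ Sum.inl, z ∘ Sum.inr, (Sum.elim_comp_inl_inr z).symm⟩
  have hxy : (member k A Φ v).map ι *ᵥ x + (member k A Ψ w).map ι *ᵥ y = 0 := by
    rw [← hz, ← Matrix.fromCols_mulVec_sumElim]
    congr 1
    ext r (c | c) <;> rfl
  obtain ⟨j, hj⟩ : ∃ j, x j ≠ 0 := by
    by_contra hcon
    push Not at hcon
    have hx : x = 0 := funext hcon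
    rw [hx, Matrix.mulVec_zero, zero_add] at hxy
    refine hΨ fun d hd => ?_
    rw [← hι, RingHom.mem_ker]
    by_contra hd0
    have hd' : ι d ∈ minorIdeal a ((member k A Ψ w).map ι) := by
      change ι.toRingHom d ∈ minorIdeal a ((member k A Ψ w).map ι.toRingHom)
      rw [← map_minorIdeal]
      exact Ideal.mem_map_of_mem _ hd
    have hy : y = 0 := (smul_eq_zero.1 (mulVec_eq_zero_of_minorIdeal _ hxy hd')).resolve_left hd0
    exact hz0 (by rw [hx, hy]; exact funext fun i => by cases i <;> rfl)
  let x' := (x j)⁻¹ • x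
  have hx'j : x' j = 1 := inv_mul_cancel₀ hj
  have hxy' : (member k A Φ v).map ι *ᵥ x' + (member k A Ψ w).map ι *ᵥ ((x j)⁻¹ • y) = 0 := by
    rw [Matrix.mulVec_smul, Matrix.mulVec_smul, ← smul_add, hxy, smul_zero]
  -- a chart
  let L : Matrix (Fin f) (Fin m₁) K := Matrix.of fun r l => ((Φ l).map ι *ᵥ x') r
  have hL : Submodule.span K (Set.range L.col) = ⊤ := by
    rw [eq_top_iff]
    intro t _
    have hall : ∀ N : Matrix (Fin f) (Fin e) A, N.map ι *ᵥ x' ∈ Submodule.span K (Set.range L.col) := by
      intro N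
      have hN : N ∈ Submodule.span A (Set.range Φ) := hΦ ▸ Submodule.mem_top
      induction hN using Submodule.span_induction with
      | mem N hN => obtain ⟨l, rfl⟩ := hN; exact Submodule.subset_span ⟨l, rfl⟩
      | zero => simp
      | add N N' _ _ h h' =>
        rw [show (N + N').map ι = N.map ι + N'.map ι from Matrix.map_add _ (map_add ι) _ _, Matrix.add_mulVec]
        exact Submodule.add_mem _ h h'
      | smul c N _ h =>
        rw [show (c • N).map ι = ι c • N.map ι from Matrix.ext fun _ _ => map_mul ι _ _, Matrix.smul_mulVec]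
        exact Submodule.smul_mem _ _ h
    rw [show t = ∑ r, t r • ((Matrix.single r j (1 : A)).map ι *ᵥ x') from funext fun s => by
      rw [Finset.sum_apply, Finset.sum_eq_single s]
      · simp [Matrix.mulVec, dotProduct, Matrix.single_apply, apply_ite ι, hx'j]
      · intro r _ hr
        simp [Matrix.mulVec, dotProduct, Matrix.single_apply, hr, apply_ite ι]
      · intro h; exact absurd (Finset.mem_univ s) h]
    exact Submodule.sum_mem _ fun r _ => Submodule.smul_mem _ _ (hall _)
  obtain ⟨τ, hτ⟩ := exists_submatrix_det_notMem L hL ⊥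
  rw [Ideal.mem_bot] at hτ
  have hδ : (G τ j).det ≠ 0 := fun h0 => hτ (by
    let ev : MvPolynomial (Var τ j) A →+* K :=
      eval₂Hom ι.toRingHom (Sum.elim 0 (Sum.elim (fun i => x' i.1) 0))
    have h1 : (L.submatrix id τ) = (G τ j).map ev := by
      ext r s
      simp only [L, G, Matrix.submatrix_apply, Matrix.of_apply, Matrix.map_apply, Matrix.mulVec, dotProduct,
        map_sum, map_mul, id_eq]
      refine Finset.sum_congr rfl fun i _ => ?_
      rw [show ev (C (Φ (τ s) r i)) = ι (Φ (τ s) r i) from eval₂Hom_C _ _ _]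
      congr 1
      simp only [u]
      split
      · next h => rw [map_one, h, hx'j]
      · next h => exact (eval₂Hom_X' ι.toRingHom
          (Sum.elim 0 (Sum.elim (fun i => x' i.1) 0) : Var τ j → K) (Sum.inr (Sum.inl ⟨i, h⟩))).symm
    rw [h1]
    exact (RingHom.map_det ev (G τ j)).symm.trans (by rw [h0, map_zero]))
  exact hgood ⟨(τ, j), hδ⟩ v w (hvw _ (Finset.mem_univ _)) P hP K ι hι x' _ hx'j hxy' hτ

end Groth.CohTwo.Degeneracy
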