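import Groth.Agent.CohTwo.Degeneracy.Sections
import Groth.Agent.PicAux.Sections

/-!
# Bases of split sums of line bundles and spanning families of morphisms
-/

universe u

open CategoryTheory CategoryTheory.Limits AlgebraicGeometry Opposite TopologicalSpace

namespace Groth.CohTwo.Degeneracy

open Groth.QCohMod (appₗ)
open Groth.PicAux (Gen)

variable {X : Scheme.{u}}

/-- A finite direct sum decomposition. -/
structure Splitting {ι : Type} [Fintype ι] (L : ι → X.Modules) (M : X.Modules) where
  s : ∀ i, L i ⟶ M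
  p : ∀ i, M ⟶ L i
  diag : ∀ i, s i ≫ p i = 𝟙 _
  off : ∀ i j, i ≠ j → s i ≫ p j = 0
  total : ∑ i, p i ≫ s i = 𝟙 M

/-- A coproduct splits. -/
theorem nonempty_splitting_sigma {α : ℕ} (L : Fin α → X.Modules) : Nonempty (Splitting L (∐ L)) := by
  haveI := HasBiproductsOfShape.mk (C := X.Modules) (J := Fin α)
  haveI : HasBiproduct L := HasBiproduct.of_hasCoproduct L
  let e := biproduct.isoCoproduct L
  refine ⟨⟨fun i => biproduct.ι L i ≫ e.hom, fun i => e.inv ≫ biproduct.π L i, fun i => by simp,
    fun i j h => by simp [biproduct.ι_π_ne _ h], ?_⟩⟩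
  simp only [Category.assoc]
  rw [← Preadditive.comp_sum]
  simp_rw [← Category.assoc (biproduct.π L _) (biproduct.ι L _)]
  rw [← Preadditive.sum_comp, biproduct.total, Category.id_comp, Iso.inv_hom_id]

/-- The sum of two splittings. -/
noncomputable def Splitting.biprod {ι κ : Type} [Fintype ι] [Fintype κ] {L : ι → X.Modules} {L' : κ → X.Modules}
    {M N : X.Modules} (d : Splitting L M) (d' : Splitting L' N) :
    Splitting (fun i : ι ⊕ κ => Sum.elim L L' i) (M ⊞ N) where
  s
    | .inl i => d.s i ≫ biprod.inl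
    | .inr j => d'.s j ≫ biprod.inr
  p
    | .inl i => biprod.fst ≫ d.p i
    | .inr j => biprod.snd ≫ d'.p j
  diag
    | .inl i => by simp [d.diag]
    | .inr j => by simp [d'.diag]
  off
    | .inl i, .inl j, h => by
      change (d.s i ≫ biprod.inl) ≫ biprod.fst ≫ d.p j = 0
      rw [Category.assoc, biprod.inl_fst_assoc, d.off i j fun e => h (congrArg _ e)]
    | .inl i, .inr j, _ => by
      change (d.s i ≫ biprod.inl) ≫ biprod.snd ≫ d'.p j = 0
      rw [Category.assoc, biprod.inl_snd_assoc, zero_comp, comp_zero]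
    | .inr i, .inl j, _ => by
      change (d'.s i ≫ biprod.inr) ≫ biprod.fst ≫ d.p j = 0
      rw [Category.assoc, biprod.inr_fst_assoc, zero_comp, comp_zero]
    | .inr i, .inr j, h => by
      change (d'.s i ≫ biprod.inr) ≫ biprod.snd ≫ d'.p j = 0
      rw [Category.assoc, biprod.inr_snd_assoc, d'.off i j fun e => h (congrArg _ e)]
  total := by
    rw [Fintype.sum_sum_type]
    change (∑ i, (biprod.fst ≫ d.p i) ≫ d.s i ≫ biprod.inl) + ∑ j, (biprod.snd ≫ d'.p j) ≫ d'.s j ≫ biprod.inr = _
    simp only [Category.assoc]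
    rw [← Preadditive.comp_sum, ← Preadditive.comp_sum]
    simp only [← Category.assoc (d.p _), ← Category.assoc (d'.p _), ← Preadditive.sum_comp, d.total, d'.total,
      Category.id_comp, biprod.total]

/-- Renumber a splitting. -/
noncomputable def Splitting.reindex {ι κ : Type} [Fintype ι] [Fintype κ] {L : ι → X.Modules} {M : X.Modules}
    (d : Splitting L M) (σ : κ ≃ ι) : Splitting (fun j => L (σ j)) M where
  s j := d.s (σ j)
  p j := d.p (σ j)
  diag j := d.diag _
  off i j h := d.off _ _ fun e => h (σ.injective e)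
  total := (σ.sum_comp fun i => d.p i ≫ d.s i).trans d.total

variable {ι κ : Type} [Fintype ι] [Fintype κ] {L : ι → X.Modules} {L' : κ → X.Modules} {A B : X.Modules}

/-- Coefficients on generators. -/
noncomputable def genEquiv {G : X.Modules} {U : X.Opens} {g : Γ(G, U)} (hg : Gen G U g) :
    Γ(X, U) ≃ₗ[Γ(X, U)] Γ(G, U) :=
  LinearEquiv.ofBijective (LinearMap.toSpanSingleton Γ(X, U) Γ(G, U) g) (by
    have h := hg U le_rfl
    simp only [Groth.PicAux.res_self] at h
    exact h)

/-- The sections of a split module as a product. -/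
noncomputable def Splitting.secEquiv (d : Splitting L A) (U : X.Opens) :
    Γ(A, U) ≃ₗ[Γ(X, U)] ((i : ι) → Γ(L i, U)) := by
  classical
  refine LinearEquiv.ofLinearMap (LinearMap.pi fun i => appₗ (d.p i) U)
    (∑ i, (appₗ (d.s i) U).comp (LinearMap.proj i)) ?_ ?_
  · refine LinearMap.ext fun z => funext fun j => ?_
    simp only [LinearMap.comp_apply, LinearMap.coe_sum, Finset.sum_apply, LinearMap.proj_apply, LinearMap.pi_apply,
      map_sum, Groth.QCohMod.appₗ_apply, LinearMap.id_apply]
    rw [Finset.sum_eq_single j]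
    · exact congr(($(d.diag j)).app U (z j))
    · intro i _ h
      exact congr(($(d.off i j h)).app U (z i))
    · simp
  · refine LinearMap.ext fun m => ?_
    simp only [LinearMap.comp_apply, LinearMap.coe_sum, Finset.sum_apply, LinearMap.proj_apply, LinearMap.pi_apply,
      Groth.QCohMod.appₗ_apply, LinearMap.id_apply]
    have h := congr(($(d.total)).app U m)
    rw [Groth.PicAux.sum_app] at h
    exact h

/-- The basis of a split module given by generators of the summands. -/
noncomputable def Splitting.basis (d : Splitting L A) {U : X.Opens} (g : ∀ i, Γ(L i, U))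
    (hg : ∀ i, Gen (L i) U (g i)) : Module.Basis ι Γ(X, U) Γ(A, U) :=
  Module.Basis.ofEquivFun ((d.secEquiv U).trans (LinearEquiv.piCongrRight fun i => (genEquiv (hg i)).symm))

theorem Splitting.basis_repr_s [DecidableEq ι] (d : Splitting L A) {U : X.Opens} (g : ∀ i, Γ(L i, U))
    (hg : ∀ i, Gen (L i) U (g i)) (i j : ι) :
    (d.basis g hg).equivFun ((d.s i).app U (g i)) j = if i = j then 1 else 0 := by
  classical
  rw [Splitting.basis, Module.Basis.equivFun_ofEquivFun]
  change (genEquiv (hg j)).symm ((d.p j).app U ((d.s i).app U (g i))) = _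
  rw [LinearEquiv.symm_apply_eq]
  by_cases h : i = j
  · subst h
    rw [if_pos rfl]
    refine (congr(($(d.diag i)).app U (g i))).trans ?_
    exact (one_smul _ _).symm
  · rw [if_neg h, map_zero]
    exact congr(($(d.off i j h)).app U (g i))

theorem Splitting.basis_apply (d : Splitting L A) {U : X.Opens} (g : ∀ i, Γ(L i, U))
    (hg : ∀ i, Gen (L i) U (g i)) (i : ι) : d.basis g hg i = (d.s i).app U (g i) := by
  classical
  apply (d.basis g hg).equivFun.injective
  funext j
  rw [d.basis_repr_s g hg i j, Module.Basis.equivFun_self]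

/-- Morphisms carrying generators to generators span the linear maps. -/
theorem span_appₗ_of_gens [DecidableEq ι] [DecidableEq κ] (d : Splitting L A) (d' : Splitting L' B) {U : X.Opens}
    (g : ∀ i, Γ(L i, U)) (hg : ∀ i, Gen (L i) U (g i)) (g' : ∀ t, Γ(L' t, U)) (hg' : ∀ t, Gen (L' t) U (g' t))
    (h : ∀ i t, ∃ ψ : L i ⟶ L' t, ψ.app U (g i) = g' t) :
    Submodule.span Γ(X, U) (Set.range fun φ : A ⟶ B => appₗ φ U) = ⊤ := by
  choose ψ hψ using h
  let a := d.basis g hg
  let b := d'.basis g' hg'
  have hunit : ∀ (i : ι) (t : κ), appₗ (d.p i ≫ ψ i t ≫ d'.s t) U = a.linearMap b (t, i) := by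
    intro i t
    refine a.ext fun j => ?_
    rw [Module.Basis.linearMap_apply_apply, d.basis_apply g hg j]
    change (d'.s t).app U ((ψ i t).app U ((d.p i).app U ((d.s j).app U (g j)))) = _
    by_cases hji : j = i
    · subst hji
      rw [if_pos rfl, d'.basis_apply g' hg' t, ← hψ j t]
      exact congrArg (fun z => (d'.s t).app U ((ψ j t).app U z)) congr(($(d.diag j)).app U (g j))
    · rw [if_neg (fun e => hji e.symm)]
      refine (congrArg (fun z => (d'.s t).app U ((ψ i t).app U z)) congr(($(d.off j i hji)).app U (g j))).trans ?_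
      exact (congrArg ((d'.s t).app U) (map_zero ((ψ i t).app U).hom)).trans (map_zero _)
  rw [eq_top_iff, ← (a.linearMap b).span_eq, Submodule.span_le]
  rintro _ ⟨⟨t, i⟩, rfl⟩
  exact Submodule.subset_span ⟨_, hunit i t⟩

end Groth.CohTwo.Degeneracy
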