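import Groth.Agent.CohTwo.Degeneracy.FullRankSheaf

/-!
# General morphisms of generically maximal rank, and general surjective morphisms
-/

universe u

open CategoryTheory CategoryTheory.Limits AlgebraicGeometry Opposite TopologicalSpace
open scoped Matrix

namespace Groth.CohTwo.Degeneracy

open Groth.QCohMod (appₗ)

/-- A polynomial condition pulled back along a surjective linear map. -/
theorem exists_pullback_poly {k : Type u} [Field k] [Infinite k] {m m' : ℕ}
    (L : (Fin m → k) →ₗ[k] (Fin m' → k)) (hL : Function.Surjective L) {p : MvPolynomial (Fin m') k} (hp : p ≠ 0) :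
    ∃ q : MvPolynomial (Fin m) k, q ≠ 0 ∧ ∀ v, MvPolynomial.eval v q = MvPolynomial.eval (L v) p := by
  classical
  let q := MvPolynomial.aeval (fun j => ∑ l, MvPolynomial.C (L (Pi.single l 1) j) * MvPolynomial.X l) p
  have hev : ∀ v, MvPolynomial.eval v q = MvPolynomial.eval (L v) p := by
    intro v
    have h : (MvPolynomial.eval v).comp (MvPolynomial.aeval
        (fun j => ∑ l, MvPolynomial.C (L (Pi.single l 1) j) * MvPolynomial.X l)).toRingHom =
        MvPolynomial.eval (L v) := by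
      refine MvPolynomial.ringHom_ext (fun c => ?_) fun j => ?_
      · simp
      · simp only [RingHom.comp_apply, AlgHom.toRingHom_eq_coe, RingHom.coe_coe, MvPolynomial.aeval_X, map_sum,
          map_mul, MvPolynomial.eval_C, MvPolynomial.eval_X]
        conv_rhs => rw [pi_eq_sum_univ' v, map_sum, Finset.sum_apply]
        exact Finset.sum_congr rfl fun l _ => by rw [map_smul, Pi.smul_apply, smul_eq_mul, mul_comm]
    exact DFunLike.congr_fun h p
  refine ⟨q, fun h0 => hp (MvPolynomial.funext fun w => ?_), hev⟩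
  obtain ⟨v, rfl⟩ := hL w
  rw [← hev v, h0, map_zero, map_zero]

/-- Full rank of the rows gives surjectivity. -/
theorem exists_mulVec_eq_of_minorIdeal {R : Type*} [CommRing R] {e f : ℕ} (M : Matrix (Fin f) (Fin e) R)
    (h : minorIdeal f M.transpose = ⊤) (y : Fin f → R) : ∃ x, M *ᵥ x = y := by
  classical
  suffices ∀ d ∈ minorIdeal f M.transpose, ∃ x, M *ᵥ x = d • y by
    simpa using this 1 (h ▸ Submodule.mem_top)
  intro d hd
  induction hd using Submodule.span_induction with
  | mem d hd =>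
    obtain ⟨⟨a, b⟩, rfl⟩ := hd
    by_cases hb : Function.Bijective b
    · let σ := Equiv.ofBijective b hb
      have hz := congrArg (· *ᵥ (y ∘ b)) (Matrix.mul_adjugate (M.submatrix b a))
      simp only [Matrix.smul_mulVec, Matrix.one_mulVec] at hz
      rw [← Matrix.mulVec_mulVec] at hz
      have hdet : (M.transpose.submatrix a b).det = (M.submatrix b a).det := by
        rw [← Matrix.det_transpose (M.submatrix b a), Matrix.transpose_submatrix]
      refine ⟨fun j => ∑ i with a i = j, ((M.submatrix b a).adjugate *ᵥ (y ∘ b)) i, funext fun s => ?_⟩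
      obtain ⟨i, rfl⟩ := hb.2 s
      have h1 := congrFun hz i
      simp only [Pi.smul_apply, Function.comp_apply] at h1 ⊢
      rw [hdet, ← h1]
      simp only [Matrix.mulVec, dotProduct, Matrix.submatrix_apply, Finset.mul_sum]
      exact (Finset.sum_fiberwise_of_maps_to (fun _ _ => Finset.mem_univ _) _).symm.trans
        (Finset.sum_congr rfl fun j _ => Finset.sum_congr rfl fun i' hi' => by
          rw [(Finset.mem_filter.1 hi').2]) |>.symm
    · rw [Finite.injective_iff_bijective.symm, Function.not_injective_iff] at hb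
      obtain ⟨i, j, hij, hne⟩ := hb
      refine ⟨0, ?_⟩
      simp only []
      rw [Matrix.det_zero_of_column_eq hne (fun y => by simp [hij]), zero_smul, Matrix.mulVec_zero]
  | zero => exact ⟨0, by rw [zero_smul, Matrix.mulVec_zero]⟩
  | add a b _ _ ha hb =>
    obtain ⟨x, hx⟩ := ha
    obtain ⟨x', hx'⟩ := hb
    exact ⟨x + x', by rw [Matrix.mulVec_add, hx, hx', add_smul]⟩
  | smul c a _ ha =>
    obtain ⟨x, hx⟩ := ha
    exact ⟨c • x, by rw [Matrix.mulVec_smul, hx, smul_eq_mul, mul_smul]⟩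

variable (k : Type u) [Field k] {X : Scheme.{u}} [X.Over (Spec (CommRingCat.of k))] [CharZero k] [IsIntegral X]
  [Smooth (X ↘ Spec (CommRingCat.of k))] [LocallyOfFiniteType (X ↘ Spec (CommRingCat.of k))]

/-- On a chart a general morphism has generically maximal rank. -/
theorem chart_injective (n : ℕ) (hdim : topologicalKrullDim X = n) {E F : X.Modules} {e f m : ℕ}
    (c : (E ⟶ F) ≃ₗ[k] (Fin m → k)) (U : X.affineOpens) [Nonempty U.1]
    (a : Module.Basis (Fin e) Γ(X, U.1) Γ(E, U.1)) (b : Module.Basis (Fin f) Γ(X, U.1) Γ(F, U.1))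
    (hspan : Submodule.span Γ(X, U.1) (Set.range fun φ : E ⟶ F => appₗ φ U.1) = ⊤) (hef : e ≤ f) :
    ∃ p : MvPolynomial (Fin m) k, p ≠ 0 ∧ ∀ φ : E ⟶ F, MvPolynomial.eval (c φ) p ≠ 0 →
      Function.Injective (appₗ φ U.1) := by
  obtain ⟨hsm, hn, Φ, hΦ, hM⟩ := exists_system k n hdim c U a b hspan
  let _ : Algebra k Γ(X, U.1) := (scalarRes k X U.1).toAlgebra
  obtain ⟨p, hp, h⟩ := exists_genericRank k Γ(X, U.1) n hn Φ hΦ hef
  refine ⟨p, hp, fun φ hφ => (injective_iff_map_eq_zero _).2 fun v hv => ?_⟩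
  obtain ⟨d, hd, hd0⟩ := (Submodule.ne_bot_iff _).1 (h _ hφ)
  have h1 : LinearMap.toMatrix a b (appₗ φ U.1) *ᵥ ⇑(a.repr v) = 0 := by
    rw [LinearMap.toMatrix_mulVec_repr, hv, map_zero]; rfl
  rw [hM φ] at h1
  have h2 := mulVec_eq_zero_of_minorIdeal _ h1 hd
  apply a.repr.injective
  rw [map_zero]
  ext j
  exact (mul_eq_zero.1 (congrFun h2 j)).resolve_left hd0

/-- On a chart a general morphism onto a bundle of much smaller rank is surjective. -/
theorem chart_surjective (n : ℕ) (hdim : topologicalKrullDim X = n) {E F : X.Modules} {e f m : ℕ}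
    (c : (E ⟶ F) ≃ₗ[k] (Fin m → k)) (U : X.affineOpens) [Nonempty U.1]
    (a : Module.Basis (Fin e) Γ(X, U.1) Γ(E, U.1)) (b : Module.Basis (Fin f) Γ(X, U.1) Γ(F, U.1))
    (hspan : Submodule.span Γ(X, U.1) (Set.range fun φ : E ⟶ F => appₗ φ U.1) = ⊤)
    (hbig : ∀ r < f, n < (f - r) * (e - r)) :
    ∃ p : MvPolynomial (Fin m) k, p ≠ 0 ∧ ∀ φ : E ⟶ F, MvPolynomial.eval (c φ) p ≠ 0 →
      Function.Surjective (appₗ φ U.1) := by
  obtain ⟨hsm, hn, Φ, hΦ, hM⟩ := exists_system k n hdim c U a b hspan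
  let _ : Algebra k Γ(X, U.1) := (scalarRes k X U.1).toAlgebra
  have hΦT : Submodule.span Γ(X, U.1) (Set.range fun l => (Φ l).transpose) = ⊤ := by
    have h := congrArg (Submodule.map (Matrix.transposeLinearEquiv (Fin f) (Fin e) Γ(X, U.1) Γ(X, U.1)).toLinearMap) hΦ
    rw [Submodule.map_span, ← Set.range_comp, Submodule.map_top, LinearEquiv.range] at h
    exact h
  obtain ⟨p, hp, h⟩ := exists_fullRank k Γ(X, U.1) n hn (fun l => (Φ l).transpose) hΦT hbig
  refine ⟨p, hp, fun φ hφ y => ?_⟩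
  have h' : minorIdeal f (LinearMap.toMatrix a b (appₗ φ U.1)).transpose = ⊤ := by
    rw [hM φ, show (member k Γ(X, U.1) Φ (c φ)).transpose = member k Γ(X, U.1) (fun l => (Φ l).transpose) (c φ) from
      Matrix.ext fun i j => by simp [member_apply, Matrix.transpose_apply]]
    exact h _ hφ
  obtain ⟨x, hx⟩ := exists_mulVec_eq_of_minorIdeal _ h' ⇑(b.repr y)
  refine ⟨a.equivFun.symm x, b.repr.injective (DFunLike.coe_injective ?_)⟩
  rw [← hx]
  conv_rhs => rw [← a.equivFun.apply_symm_apply x]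
  exact (LinearMap.toMatrix_mulVec_repr a b (appₗ φ U.1) (a.equivFun.symm x)).symm

omit [CharZero k] [IsIntegral X] [Smooth (X ↘ Spec (CommRingCat.of k))] [LocallyOfFiniteType (X ↘ Spec (CommRingCat.of k))] [X.Over (Spec (CommRingCat.of k))]

/-- Surjective on sections over an affine cover gives an epimorphism. -/
theorem epi_of_affine_cover {E F : X.Modules} [E.IsQuasicoherent] [F.IsQuasicoherent] (φ : E ⟶ F)
    (h : ∀ x : X, ∃ U : X.affineOpens, x ∈ U.1 ∧ Function.Surjective (appₗ φ U.1)) : Epi φ := by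
  refine (Groth.QCohMod.epi_iff_stalk φ).2 fun x => ?_
  obtain ⟨U, hx, hsurj⟩ := h x
  change Function.Surjective (RefHull.stalkMapₗ φ x)
  intro t
  obtain ⟨a, m, ha, hm⟩ := Groth.QCohMod.exists_smul_germ_eq F U.2 x hx t
  obtain ⟨v, hv⟩ := hsurj m
  obtain ⟨w, hw⟩ := ((Scheme.mem_basicOpen X a x hx).mp ha)
  refine ⟨(↑w⁻¹ : X.presheaf.stalk x) • Groth.QCohMod.germ E x hx v, ?_⟩
  have h1 : RefHull.stalkMapₗ φ x (Groth.QCohMod.germ E x hx v) = X.presheaf.germ U.1 x hx a • t := by
    refine (RefHull.stalkMapₗ_germ φ x hx v).trans ?_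
    exact (congrArg (Groth.QCohMod.germ F x hx) hv).trans hm.symm
  rw [map_smul, h1, ← hw, smul_smul, Units.inv_mul, one_smul]

end Groth.CohTwo.Degeneracy
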