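import Groth.Agent.CohTwo.Degeneracy.Determinantal
import Groth.Agent.Variety2.DimAffine

/-!
# The universal determinantal locus of a spanning linear system of matrices
-/

universe u

open Matrix MvPolynomial

namespace Groth.CohTwo.Degeneracy

variable {r m : ℕ} {α β O : Type} [Fintype α] [Fintype β] [Fintype O]

variable (A : Type u) [CommRing A]
  (N : Matrix (((Fin r ⊕ α) × (Fin r ⊕ β)) ⊕ O) (Fin m) A)

/-- The general member of the linear system. -/
noncomputable def genMat : Matrix (Fin r ⊕ α) (Fin r ⊕ β) (MvPolynomial (Fin m) A) :=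
  Matrix.of fun i j => ∑ l, C (N (Sum.inl (i, j)) l) * X l

/-- The member of the linear system with given coefficients. -/
noncomputable def memMat {B : Type*} [CommRing B] [Algebra A B] (y : Fin m → B) :
    Matrix (Fin r ⊕ α) (Fin r ⊕ β) B :=
  Matrix.of fun i j => (N.map (algebraMap A B) *ᵥ y) (Sum.inl (i, j))

theorem genMat_map {B : Type*} [CommRing B] [Algebra A B] (g : MvPolynomial (Fin m) A →ₐ[A] B) :
    (genMat A N).map g = memMat A N fun l => g (X l) := by
  ext i j
  simp [genMat, memMat, Matrix.mulVec, dotProduct, map_sum, algebraMap_eq]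

/-- The coordinate ring of the rank locus inside the total space. -/
abbrev RankQuot : Type u := MvPolynomial (Fin m) A ⧸ minorIdeal (r + 1) (genMat A N)

/-- The corner minor. -/
noncomputable abbrev corner : RankQuot A N :=
  Ideal.Quotient.mk _ (genMat A N).toBlocks₁₁.det

/-- The universal rank-`r` locus. -/
abbrev Inc : Type u := Localization.Away (corner A N)

/-- Coordinates on the model. -/
abbrev Var (r : ℕ) (α β O : Type) : Type :=
  ((Fin r × Fin r) ⊕ (Fin r × β)) ⊕ ((α × Fin r) ⊕ O)

/-- The variable corner. -/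
noncomputable abbrev varA : Matrix (Fin r) (Fin r) (MvPolynomial (Var r α β O) A) :=
  Matrix.of fun i j => X (Sum.inl (Sum.inl (i, j)))

/-- The model of the universal rank-`r` locus. -/
abbrev Model (r : ℕ) (α β O : Type) (A : Type u) [CommRing A] : Type u :=
  Localization.Away (varA (r := r) (α := α) (β := β) (O := O) A).det

theorem eval_det_varA :
    MvPolynomial.eval₂ (RingHom.id A) (fun v => match v with
      | Sum.inl (Sum.inl (i, j)) => if i = j then 1 else 0
      | _ => 0) (varA (r := r) (α := α) (β := β) (O := O) A).det = 1 := by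
  rw [← MvPolynomial.coe_eval₂Hom, RingHom.map_det]
  convert Matrix.det_one (n := Fin r) (R := A)
  ext i j
  simp [Matrix.one_apply]

theorem det_varA_ne_zero [Nontrivial A] :
    (varA (r := r) (α := α) (β := β) (O := O) A).det ≠ 0 := fun h => by
  have h1 := eval_det_varA (r := r) (α := α) (β := β) (O := O) A
  rw [h, eval₂_zero] at h1
  exact zero_ne_one h1

/-- The tautological matrix of the model, with the opposite block eliminated. -/
noncomputable def modelVec : ((Fin r ⊕ α) × (Fin r ⊕ β)) ⊕ O → Model r α β O A :=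
  let P := Model r α β O A
  let a : Matrix (Fin r) (Fin r) P := Matrix.of fun i j => algebraMap (MvPolynomial (Var r α β O) A) P (X (Sum.inl (Sum.inl (i, j))))
  let b : Matrix (Fin r) β P := Matrix.of fun i j => algebraMap (MvPolynomial (Var r α β O) A) P (X (Sum.inl (Sum.inr (i, j))))
  let c : Matrix α (Fin r) P := Matrix.of fun i j => algebraMap (MvPolynomial (Var r α β O) A) P (X (Sum.inr (Sum.inl (i, j))))
  Sum.elim (fun p => Matrix.fromBlocks a b c (c * a⁻¹ * b) p.1 p.2)
    fun o => algebraMap (MvPolynomial (Var r α β O) A) P (X (Sum.inr (Sum.inr o)))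

/-- The universal rank locus is a localised polynomial algebra. -/
theorem nonempty_equiv [DecidableEq α] [DecidableEq β] [DecidableEq O]
    (N' : Matrix (Fin m) (((Fin r ⊕ α) × (Fin r ⊕ β)) ⊕ O) A) (hNN' : N * N' = 1) (hN'N : N' * N = 1) :
    Nonempty (Inc A N ≃ₐ[A] Model r α β O A) := by
  let P := Model r α β O A
  let Q := Inc A N
  have hinv : ∀ {B : Type u} [CommRing B] [Algebra A B] (z : ((Fin r ⊕ α) × (Fin r ⊕ β)) ⊕ O → B),
      N.map (algebraMap A B) *ᵥ (N'.map (algebraMap A B) *ᵥ z) = z := fun z => by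
    rw [Matrix.mulVec_mulVec, ← Matrix.map_mul, hNN', Matrix.map_one _ (map_zero _) (map_one _),
      Matrix.one_mulVec]
  have hinv' : ∀ {B : Type u} [CommRing B] [Algebra A B] (y : Fin m → B),
      N'.map (algebraMap A B) *ᵥ (N.map (algebraMap A B) *ᵥ y) = y := fun y => by
    rw [Matrix.mulVec_mulVec, ← Matrix.map_mul, hN'N, Matrix.map_one _ (map_zero _) (map_one _),
      Matrix.one_mulVec]
  -- to the model
  let a : Matrix (Fin r) (Fin r) P := Matrix.of fun i j => algebraMap (MvPolynomial (Var r α β O) A) P (X (Sum.inl (Sum.inl (i, j))))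
  have hadet : a.det = algebraMap _ P (varA (r := r) (α := α) (β := β) (O := O) A).det :=
    (RingHom.map_det (algebraMap (MvPolynomial (Var r α β O) A) P) (varA A)).symm
  have haunit : IsUnit a.det := by rw [hadet]; exact IsLocalization.Away.algebraMap_isUnit _
  let y : Fin m → P := N'.map (algebraMap A P) *ᵥ modelVec A
  let g : MvPolynomial (Fin m) A →ₐ[A] P := aeval y
  have hgM : (genMat A N).map g = Matrix.of fun i j => modelVec A (Sum.inl (i, j)) := by
    rw [genMat_map]
    ext i j
    simp only [memMat, Matrix.of_apply, g, aeval_X]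
    exact congrFun (hinv (modelVec A)) _
  have hrank : RankLE r ((genMat A N).map g) := by
    rw [hgM]
    exact rankLE_fromBlocks a haunit _ _
  have hJ : ∀ x ∈ minorIdeal (r + 1) (genMat A N), g x = 0 := by
    intro x hx
    have h1 := Ideal.mem_map_of_mem g.toRingHom hx
    rw [map_minorIdeal] at h1
    have h2 : minorIdeal (r + 1) ((genMat A N).map g.toRingHom) = ⊥ := rankLE_iff.1 hrank
    rw [h2, Ideal.mem_bot] at h1
    exact h1
  let gq : RankQuot A N →ₐ[A] P := Ideal.Quotient.liftₐ _ g hJ
  have hgd : gq (corner A N) = a.det := by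
    change g (genMat A N).toBlocks₁₁.det = _
    rw [AlgHom.map_det]
    congr 1
    ext i j
    exact congr($hgM (Sum.inl i) (Sum.inl j))
  let φ : Q →ₐ[A] P := IsLocalization.liftAlgHom (M := Submonoid.powers (corner A N)) (f := gq)
    fun z => by
      obtain ⟨-, e, rfl⟩ := z
      change IsUnit (gq (corner A N ^ e))
      rw [map_pow, hgd]
      exact haunit.pow _
  -- back
  let π : MvPolynomial (Fin m) A →ₐ[A] Q :=
    (IsScalarTower.toAlgHom A (RankQuot A N) Q).comp (Ideal.Quotient.mkₐ A _)
  let M := (genMat A N).map π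
  have hMrank : RankLE r M := by
    rw [rankLE_iff, eq_bot_iff]
    change minorIdeal (r + 1) ((genMat A N).map π.toRingHom) ≤ ⊥
    rw [← map_minorIdeal, Ideal.map_le_iff_le_comap]
    intro x hx
    rw [Ideal.mem_comap, Ideal.mem_bot]
    change algebraMap (RankQuot A N) Q (Ideal.Quotient.mk _ x) = 0
    rw [Ideal.Quotient.eq_zero_iff_mem.2 hx, map_zero]
  have hMdet : IsUnit M.toBlocks₁₁.det := by
    have : M.toBlocks₁₁.det = π (genMat A N).toBlocks₁₁.det := (AlgHom.map_det π _).symm
    rw [this]
    exact IsLocalization.Away.algebraMap_isUnit (corner A N)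
  let z : ((Fin r ⊕ α) × (Fin r ⊕ β)) ⊕ O → Q := N.map (algebraMap A Q) *ᵥ fun l => π (X l)
  have hzM : ∀ i j, z (Sum.inl (i, j)) = M i j := fun i j => by
    change memMat A N (fun l => π (X l)) i j = _
    rw [← genMat_map]
  let w : Var r α β O → Q := Sum.elim
    (Sum.elim (fun p => M (Sum.inl p.1) (Sum.inl p.2)) fun p => M (Sum.inl p.1) (Sum.inr p.2))
    (Sum.elim (fun p => M (Sum.inr p.1) (Sum.inl p.2)) fun o => z (Sum.inr o))
  let ψ₀ : MvPolynomial (Var r α β O) A →ₐ[A] Q := aeval w
  have hψdet : IsUnit (ψ₀ (varA A).det) := by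
    rw [AlgHom.map_det]
    convert hMdet
    ext i j
    simp [ψ₀, w, Matrix.toBlocks₁₁]
  let ψ : P →ₐ[A] Q := IsLocalization.liftAlgHom (M := Submonoid.powers (varA (α := α) (β := β) (O := O) A).det) (f := ψ₀)
    fun z => by
      obtain ⟨-, e, rfl⟩ := z
      change IsUnit (ψ₀ ((varA A).det ^ e))
      rw [map_pow]
      exact hψdet.pow _
  have hψalg : ∀ x, ψ (algebraMap (MvPolynomial (Var r α β O) A) (Model r α β O A) x) = ψ₀ x := fun x => IsLocalization.lift_eq _ x
  have hφalg : ∀ x, φ (π x) = g x := fun x => IsLocalization.lift_eq _ _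
  have hψvec : ∀ s, ψ (modelVec A s) = z s := by
    intro s
    rcases s with ⟨i, j⟩ | o
    · rw [hzM]
      rcases i with i | i <;> rcases j with j | j
      · simp [modelVec, hψalg, ψ₀, w]
      · simp [modelVec, hψalg, ψ₀, w]
      · simp [modelVec, hψalg, ψ₀, w]
      · change _ = M.toBlocks₂₂ i j
        rw [block_eq_of_rankLE M hMrank hMdet]
        let b : Matrix (Fin r) β P := Matrix.of fun i j => algebraMap (MvPolynomial (Var r α β O) A) P (X (Sum.inl (Sum.inr (i, j))))
        let c : Matrix α (Fin r) P := Matrix.of fun i j => algebraMap (MvPolynomial (Var r α β O) A) P (X (Sum.inr (Sum.inl (i, j))))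
        change ((c * a⁻¹ * b).map ψ) i j = _
        rw [Matrix.map_mul, Matrix.map_mul]
        have ha : a.map ψ = M.toBlocks₁₁ := by
          ext p q; simp [a, P, hψalg, ψ₀, w, Matrix.toBlocks₁₁]
        have hb : b.map ψ = M.toBlocks₁₂ := by
          ext p q; simp [b, P, hψalg, ψ₀, w, Matrix.toBlocks₁₂]
        have hc : c.map ψ = M.toBlocks₂₁ := by
          ext p q; simp [c, P, hψalg, ψ₀, w, Matrix.toBlocks₂₁]
        have hai : a⁻¹.map ψ = M.toBlocks₁₁⁻¹ := by
          symm
          refine Matrix.inv_eq_right_inv ?_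
          rw [← ha, ← Matrix.map_mul, Matrix.mul_nonsing_inv a haunit,
            Matrix.map_one _ (map_zero _) (map_one _)]
        rw [hai, hb, hc]
    · simp [modelVec, hψalg, ψ₀, w, z]
  have hψy : ∀ l, ψ (y l) = π (X l) := fun l => by
    have h1 : ψ (y l) = (N'.map (algebraMap A Q) *ᵥ fun s => ψ (modelVec A s)) l := by
      simp [y, Matrix.mulVec, dotProduct, map_sum]
    rw [h1, funext hψvec]
    exact congrFun (hinv' _) l
  have hφz : ∀ s, φ (z s) = modelVec A s := fun s => by
    have h1 : φ (z s) = (N.map (algebraMap A P) *ᵥ fun l => φ (π (X l))) s := by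
      simp [z, Matrix.mulVec, dotProduct, map_sum]
    rw [h1]
    simp only [hφalg, g, aeval_X]
    exact congrFun (hinv _) s
  refine ⟨AlgEquiv.ofAlgHom φ ψ ?_ ?_⟩
  · refine IsLocalization.algHom_ext (Submonoid.powers (varA (r := r) (α := α) (β := β) (O := O) A).det) ?_
    refine MvPolynomial.algHom_ext fun v => ?_
    change φ (ψ (algebraMap (MvPolynomial (Var r α β O) A) P (X v))) = algebraMap (MvPolynomial (Var r α β O) A) P (X v)
    rw [hψalg]
    simp only [ψ₀, aeval_X]
    rcases v with (⟨i, j⟩ | ⟨i, j⟩) | (⟨i, j⟩ | o) <;>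
      simp only [w, Sum.elim_inl, Sum.elim_inr, ← hzM, hφz] <;> rfl
  · refine IsLocalization.algHom_ext (Submonoid.powers (corner A N)) ?_
    refine Ideal.Quotient.algHom_ext _ ?_
    refine MvPolynomial.algHom_ext fun l => ?_
    change ψ (φ (π (X l))) = π (X l)
    rw [hφalg]
    simp only [g, aeval_X]
    exact hψy l

theorem card_var [DecidableEq α] [DecidableEq β] (hcard : Fintype.card (((Fin r ⊕ α) × (Fin r ⊕ β)) ⊕ O) = m) :
    Fintype.card (Var r α β O) + Fintype.card α * Fintype.card β = m := by
  rw [← hcard]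
  simp only [Fintype.card_sum, Fintype.card_prod, Fintype.card_fin]
  ring

/-- The universal rank locus is a smooth domain of the expected dimension. -/
theorem props (k : Type u) [Field k] [IsDomain A] [Algebra k A] [Algebra.Smooth k A] (n : ℕ)
    (hn : ringKrullDim A = n) [DecidableEq α] [DecidableEq β] [DecidableEq O]
    (hcard : Fintype.card (((Fin r ⊕ α) × (Fin r ⊕ β)) ⊕ O) = m)
    (N' : Matrix (Fin m) (((Fin r ⊕ α) × (Fin r ⊕ β)) ⊕ O) A) (hNN' : N * N' = 1) (hN'N : N' * N = 1) :
    IsDomain (Inc A N) ∧ Algebra.Smooth k (Inc A N) ∧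
      ∀ 𝔪 : Ideal (Inc A N), 𝔪.IsMaximal →
        𝔪.height + (Fintype.card α * Fintype.card β : ℕ) = (n + m : ℕ) := by
  classical
  obtain ⟨e⟩ := nonempty_equiv A N N' hNN' hN'N
  let Pol := MvPolynomial (Var r α β O) A
  let P := Model r α β O A
  have hne : (varA (r := r) (α := α) (β := β) (O := O) A).det ≠ 0 := det_varA_ne_zero A
  haveI hP : IsDomain P := IsLocalization.isDomain_localization
    (Submonoid.powers_le.2 (mem_nonZeroDivisors_of_ne_zero hne))
  haveI : IsDomain (Inc A N) := e.toMulEquiv.isDomain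
  haveI : Algebra.FormallySmooth Pol P := .of_isLocalization (Submonoid.powers (varA A).det)
  haveI : Algebra.FinitePresentation Pol P := IsLocalization.Away.finitePresentation (varA A).det
  haveI : Algebra.Smooth Pol P := ⟨inferInstance, inferInstance⟩
  haveI : Algebra.Smooth A Pol := ⟨inferInstance, inferInstance⟩
  haveI : Algebra.Smooth A P := Algebra.Smooth.comp A Pol P
  haveI : Algebra.Smooth k P := Algebra.Smooth.comp k A P
  refine ⟨inferInstance, Algebra.Smooth.of_equiv (e.restrictScalars k).symm, fun 𝔪 h𝔪 => ?_⟩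
  haveI : Algebra.FiniteType k A := inferInstance
  haveI : Algebra.FiniteType k P := inferInstance
  haveI : IsNoetherianRing A := Algebra.FiniteType.isNoetherianRing k A
  haveI : IsNoetherianRing Pol := inferInstance
  haveI : Algebra.FiniteType k Pol := Algebra.FiniteType.trans (R := k) (S := A) inferInstance inferInstance
  obtain ⟨D, -, hD, hmax⟩ := Groth.Variety2.Dim.exists_dim k Pol
  have hDeq : D = n + Fintype.card (Var r α β O) := by
    have h := MvPolynomial.ringKrullDim_of_isNoetherianRing (R := A) (ι := Var r α β O)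
    rw [hD, hn, Nat.card_eq_fintype_card] at h
    exact_mod_cast h
  have hc := card_var (O := O) (α := α) (β := β) hcard
  let M := 𝔪.map e.toRingEquiv
  haveI hM : M.IsMaximal := Ideal.map_isMaximal_of_equiv e.toRingEquiv
  have h1 : (M.under Pol).height = M.height :=
    IsLocalization.height_under (Submonoid.powers (varA A).det) M
  haveI : IsJacobsonRing Pol := isJacobsonRing_of_finiteType (A := k)
  have h2 : (M.under Pol).IsMaximal :=
    (IsLocalization.isMaximal_iff_isMaximal_disjoint P (varA A).det M).1 hM |>.1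
  have h3 := hmax _ h2
  rw [h1, e.toRingEquiv.height_map] at h3
  rw [h3, hDeq]
  exact_mod_cast (show n + Fintype.card (Var r α β O) + Fintype.card α * Fintype.card β = n + m by omega)

end Groth.CohTwo.Degeneracy
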